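/-
Words of the presented Suzuki group: an element `y` of order 13, an element `u` of order 6
normalizing it, an involution `s` commuting with `u`.
-/
import Cfsg.Agent.Lib.Helper28.Suz1782.Defs

set_option autoImplicit false
set_option maxRecDepth 100000

namespace Cfsg.Agent.Lib.Helper28.SuzOut

open Cfsg.Spor.Suz (Gen)

/-- the element of order 13 -/
def yw : List Gen := [Gen.d, Gen.a, Gen.f, Gen.c, Gen.e, Gen.b, Gen.c]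

/-- the element of order 6 with `u y u⁻¹ = y⁴` -/
def uw : List Gen := [Gen.c, Gen.d, Gen.c, Gen.b, Gen.f, Gen.b, Gen.g, Gen.b, Gen.f, Gen.d, Gen.c, Gen.b, Gen.g, Gen.b, Gen.f, Gen.b, Gen.g, Gen.b, Gen.d, Gen.e, Gen.c, Gen.d, Gen.c, Gen.b, Gen.g, Gen.b, Gen.f, Gen.c, Gen.d, Gen.c, Gen.b, Gen.g, Gen.b, Gen.c, Gen.a, Gen.b, Gen.g, Gen.b, Gen.f, Gen.d, Gen.e, Gen.d, Gen.b, Gen.g, Gen.b, Gen.a, Gen.f, Gen.b, Gen.g, Gen.b, Gen.a, Gen.c, Gen.d, Gen.c, Gen.b, Gen.g, Gen.b, Gen.f, Gen.a, Gen.b, Gen.g, Gen.b, Gen.d, Gen.e, Gen.d, Gen.c, Gen.d, Gen.c, Gen.a, Gen.f, Gen.b, Gen.g, Gen.b, Gen.a, Gen.c, Gen.b, Gen.g, Gen.b, Gen.d, Gen.c, Gen.a, Gen.b, Gen.g, Gen.b, Gen.f, Gen.a, Gen.b, Gen.g, Gen.b, Gen.d, Gen.e, Gen.d, Gen.b, Gen.g, Gen.b, Gen.a, Gen.f,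 Gen.b, Gen.g, Gen.b, Gen.d, Gen.c, Gen.f, Gen.b, Gen.g, Gen.b, Gen.c, Gen.d, Gen.a, Gen.b, Gen.g, Gen.b, Gen.f, Gen.b, Gen.g, Gen.b, Gen.d, Gen.e, Gen.d, Gen.a, Gen.c, Gen.d, Gen.c, Gen.d, Gen.e, Gen.d, Gen.b, Gen.g, Gen.b, Gen.a, Gen.f, Gen.b, Gen.g, Gen.b, Gen.c, Gen.d, Gen.c, Gen.a, Gen.b, Gen.g, Gen.b, Gen.f, Gen.a, Gen.b, Gen.g, Gen.b, Gen.d, Gen.e, Gen.d, Gen.c, Gen.d, Gen.c, Gen.a, Gen.d, Gen.e, Gen.d, Gen.b, Gen.g, Gen.b, Gen.f, Gen.b, Gen.g, Gen.b, Gen.a, Gen.d, Gen.c, Gen.b, Gen.g, Gen.b, Gen.f, Gen.c, Gen.d, Gen.a, Gen.c, Gen.d, Gen.c, Gen.b, Gen.g, Gen.b, Gen.f, Gen.a, Gen.b, Gen.g, Gen.b, Gen.d, Gen.e, Gen.d, Gen.c, Gen.d, Gen.c, Gen.a, Gen.f, Gen.b, Gen.g, Gen.b, Gen.a, Gen.c, Gen.b, Gen.g, Gen.b, Gen.d, Gen.c, Gen.a, Gen.b,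 Gen.g, Gen.b, Gen.f, Gen.a, Gen.b, Gen.g, Gen.b, Gen.d, Gen.e, Gen.d]

/-- the involution commuting with `u` -/
def sw : List Gen := [Gen.b, Gen.g, Gen.f, Gen.e, Gen.b, Gen.c, Gen.d, Gen.c, Gen.b, Gen.a, Gen.b, Gen.c, Gen.b, Gen.g, Gen.b, Gen.a, Gen.b, Gen.g, Gen.b, Gen.f, Gen.c, Gen.d, Gen.c, Gen.b, Gen.g, Gen.b, Gen.e, Gen.a, Gen.c, Gen.b, Gen.g, Gen.b, Gen.c, Gen.a, Gen.b, Gen.g, Gen.b, Gen.f, Gen.d, Gen.e, Gen.d, Gen.a, Gen.c, Gen.d, Gen.b, Gen.g, Gen.b, Gen.c, Gen.a, Gen.b, Gen.g, Gen.b, Gen.f, Gen.b, Gen.g, Gen.b, Gen.a, Gen.f, Gen.b, Gen.g, Gen.b, Gen.a, Gen.c, Gen.d, Gen.c, Gen.b, Gen.g, Gen.b, Gen.f, Gen.a, Gen.b, Gen.g, Gen.b, Gen.d, Gen.e, Gen.d, Gen.c, Gen.d, Gen.c, Gen.a, Gen.f, Gen.b, Gen.g, Gen.b, Gen.a, Gen.c, Gen.b, Gen.g,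 Gen.b, Gen.d, Gen.c, Gen.a, Gen.b, Gen.g, Gen.b, Gen.f, Gen.a, Gen.b, Gen.g, Gen.b, Gen.d, Gen.e, Gen.d, Gen.b, Gen.g, Gen.b, Gen.a, Gen.f, Gen.b, Gen.g, Gen.b, Gen.a, Gen.c, Gen.d, Gen.c, Gen.b, Gen.g, Gen.b, Gen.f, Gen.a, Gen.b, Gen.g, Gen.b, Gen.d, Gen.e, Gen.d, Gen.b, Gen.g, Gen.b, Gen.a, Gen.f, Gen.b, Gen.g, Gen.b, Gen.a, Gen.c, Gen.d, Gen.b, Gen.g, Gen.b, Gen.c, Gen.a, Gen.b, Gen.g, Gen.b, Gen.f, Gen.a, Gen.c, Gen.d, Gen.c, Gen.d, Gen.e, Gen.d, Gen.b, Gen.g, Gen.b, Gen.a, Gen.f, Gen.b, Gen.g, Gen.b, Gen.c, Gen.d, Gen.c, Gen.a, Gen.d, Gen.c, Gen.f, Gen.b, Gen.g, Gen.b, Gen.c, Gen.d, Gen.a, Gen.b, Gen.g, Gen.b, Gen.f, Gen.b, Gen.g, Gen.b, Gen.d, Gen.e, Gen.d, Gen.a, Gen.c, Gen.d, Gen.c, Gen.d, Gen.e, Gen.d, Gen.b, Gen.g, Gen.b, Gen.a,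 Gen.f, Gen.b, Gen.g, Gen.b, Gen.a, Gen.c, Gen.d, Gen.c, Gen.b, Gen.g, Gen.b, Gen.f, Gen.a, Gen.b, Gen.g, Gen.b]

end Cfsg.Agent.Lib.Helper28.SuzOut
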