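/-
Data for the rigidity of the triple `(y, u, s)` of the presented Suzuki group: the generators as words
in `y, u, s, y⁻¹, u⁻¹` (letters 0-4), and the images of the generators under an outer automorphism.
-/
import Cfsg.Agent.Lib.Helper28.Suz1782.Defs

set_option autoImplicit false
set_option maxRecDepth 100000

namespace Cfsg.Agent.Lib.Helper28.SuzOut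

open Cfsg.Spor.Suz (Gen)

noncomputable section

def genW0 : List ℕ := [2, 0, 2, 1, 0, 2, 0, 4, 0, 4, 2, 0, 2, 1, 3, 2, 1, 4, 4, 3, 2, 3, 4, 4, 2, 0, 4, 2, 3, 2, 1, 4, 4, 3, 2, 3, 4, 4, 2, 0, 2, 1, 3, 2, 1, 4, 4, 3, 2, 3, 4, 2, 0, 4, 0, 4, 2, 4, 4, 3, 2, 3, 4, 2, 0, 4, 0, 4, 2, 2, 0, 4, 0, 4, 2, 1, 0, 2, 0, 1, 1, 2, 0, 4, 0, 4, 2, 4, 4, 3, 2, 3, 4, 4, 2, 0, 4, 2, 3, 2, 1, 4, 4, 3, 2, 3, 4, 1, 0, 2, 0, 1, 1, 4, 2, 0, 4, 2, 3, 2, 1, 1, 0, 2, 0, 1, 1, 4, 2, 0, 4, 2, 3, 2, 1, 2, 0, 4, 0, 4, 2, 4, 4, 3, 2, 3, 4, 2, 0, 4, 0, 4, 2, 1, 0, 2, 0, 1, 1, 4, 2, 0, 2, 1, 3, 2, 1, 1, 0, 2, 0, 1, 1, 2, 1, 3, 1, 3, 2, 4, 4, 3, 2, 3, 4,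 2, 1, 3, 1, 3, 2, 1, 0, 2, 0, 1, 1, 4, 2, 0, 2, 1, 3, 2, 1, 1, 0, 2, 0, 1, 1, 2, 1, 3, 1, 3, 2, 4, 4, 3, 2, 3, 4, 2, 1, 3, 1, 3, 2, 2, 1, 3, 1, 3, 2, 1, 0, 2, 0, 1, 1, 2, 1, 3, 1, 3, 2, 4, 2, 0, 2, 1, 3, 2, 1, 4, 4, 3, 2, 3, 4, 4, 2, 0, 2, 1, 3, 2, 1, 4, 4, 3, 2, 3, 4, 2, 1, 3, 1, 3, 2, 1, 0, 2, 0, 1, 1, 2, 1, 3, 1, 3, 2, 4, 2, 0, 2, 1, 3, 2, 1, 4, 4, 3, 2, 3, 4, 4, 2, 0, 2, 1, 3, 2, 1, 4, 4, 3, 2, 3, 4, 2, 0, 4, 0, 4, 2, 1, 0, 2, 0, 1, 1, 2, 0, 4, 0, 4, 2, 4, 4, 3, 2, 3, 4, 4, 2, 0, 4, 2, 3, 2, 1, 4, 4, 3, 2, 3, 4, 1, 0, 2, 0, 1, 1, 4, 2, 0, 4, 2, 3, 2, 1, 1, 0, 2, 0, 1, 1, 4, 2, 0, 4, 2, 3, 2, 1, 2, 0, 4, 0, 4, 2, 4,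 4, 3, 2, 3, 4, 2, 0, 4, 0, 4, 2, 1, 0, 2, 0, 1, 1, 4, 2, 0, 2, 1, 3, 2, 1, 1, 0, 2, 0, 1, 1, 2, 1, 3, 1, 3, 2, 4, 4, 3, 2, 3, 4, 2, 1, 3, 1, 3, 2, 1, 0, 2, 0, 1, 1, 4, 2, 0, 4, 2, 3, 2, 1, 1, 0, 2, 0, 1, 1, 4, 2, 0, 4, 2, 3, 2, 1, 2, 0, 4, 0, 4, 2, 4, 4, 3, 2, 3, 4, 2, 0, 4, 0, 4, 2, 1, 0, 2, 0, 1, 1, 4, 2, 0, 4, 2, 3, 2, 1, 1, 0, 2, 0, 1, 1, 4, 2, 0, 4, 2, 3, 2, 1, 2, 0, 4, 0, 4, 2, 4, 4, 3, 2, 3, 4, 2, 0, 4, 0, 4, 2, 1, 0, 2, 0, 1, 1, 4, 2, 0, 4, 2, 3, 2, 1, 1, 0, 2, 0, 1, 1, 4, 2, 0, 4, 2, 3, 2, 1, 2, 0, 4, 0, 4, 2, 4, 4, 3, 2, 3, 4, 2, 0, 4, 0, 4, 2, 1, 0, 2, 0, 1, 1, 4, 2, 0, 2, 1, 3, 2, 1, 1, 0, 2, 0, 1, 1, 2, 1,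 3, 1, 3, 2, 4, 4, 3, 2, 3, 4, 2, 1, 3, 1, 3, 2, 1, 0, 2, 0, 1, 1, 4, 2, 0, 2, 1, 3, 2, 1, 1, 0, 2, 0, 1, 1, 2, 1, 3, 1, 3, 2, 4, 4, 3, 2, 3, 4, 2, 1, 3, 1, 3, 2, 2, 1, 3, 1, 3, 2, 1, 0, 2, 0, 1, 1, 2, 1, 3, 1, 3, 2, 4, 2, 0, 2, 1, 3, 2, 1, 4, 4, 3, 2, 3, 4, 4, 2, 0, 2, 1, 3, 2, 1, 4, 4, 3, 2, 3, 4, 2, 0, 4, 0, 4, 2, 1, 0, 2, 0, 1, 1, 2, 0, 4, 0, 4, 2, 4, 4, 3, 2, 3, 4, 4, 2, 0, 4, 2, 3, 2, 1, 4, 4, 3, 2, 3, 4, 2, 1, 3, 1, 3, 2, 1, 0, 2, 0, 1, 1, 2, 1, 3, 1, 3, 2, 4, 2, 0, 2, 1, 3, 2, 1, 4, 4, 3, 2, 3, 4, 4, 2, 0, 2, 1, 3, 2, 1, 4, 4, 3, 2, 3, 4, 2, 0, 4, 0, 4, 2, 1, 0, 2, 0, 1, 1, 2, 0, 4, 0, 4, 2, 4, 4, 3, 2, 3, 4, 4,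 2, 0, 4, 2, 3, 2, 1, 4, 4, 3, 2, 3, 4, 2, 0, 4, 0, 4, 2, 1, 0, 2, 0, 1, 1, 2, 0, 4, 0, 4, 2, 4, 4, 3, 2, 3, 4, 4, 2, 0, 4, 2, 3, 2, 1, 4, 4, 3, 2, 3, 4, 1, 0, 2, 0, 1, 1, 4, 2, 0, 4, 2, 3, 2, 1, 1, 0, 2, 0, 1, 1, 4, 2, 0, 4, 2, 3, 2, 1, 2, 0, 4, 0, 4, 2, 4, 4, 3, 2, 3, 4, 2, 0, 4, 0, 4, 2, 1, 0, 2, 0, 1, 1, 4, 2, 0, 2, 1, 3, 2, 1, 1, 0, 2, 0, 1, 1, 2, 1, 3, 1, 3, 2, 4, 4, 3, 2, 3, 4, 2, 1, 3, 1, 3, 2, 1, 0, 2, 0, 1, 1, 4, 2, 0, 4, 2, 3, 2, 1, 1, 0, 2, 0, 1, 1, 4, 2, 0, 4, 2, 3, 2, 1, 2, 0, 4, 0, 4, 2, 4, 4, 3, 2, 3, 4, 2, 0, 4, 0, 4, 2, 1, 0, 2, 0, 1, 1, 4, 2, 0, 4, 2, 3, 2, 1, 1, 0, 2, 0, 1, 1, 4, 2, 0, 4, 2, 3, 2, 1,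 2, 0, 4, 0, 4, 2, 4, 4, 3, 2, 3, 4, 2, 0, 4, 0, 4, 2, 1, 0, 2, 0, 1, 1, 4, 2, 0, 4, 2, 3, 2, 1, 1, 0, 2, 0, 1, 1, 4, 2, 0, 4, 2, 3, 2, 1, 2, 0, 4, 0, 4, 2, 4, 4, 3, 2, 3, 4, 2, 0, 4, 0, 4, 2, 1, 0, 2, 0, 1, 1, 4, 2, 0, 2, 1, 3, 2, 1, 1, 0, 2, 0, 1, 1, 2, 1, 3, 1, 3, 2, 4, 4, 3, 2, 3, 4, 2, 1, 3, 1, 3, 2, 1, 0, 2, 0, 1, 1, 4, 2, 0, 4, 2, 3, 2, 1, 1, 0, 2, 0, 1, 1, 4, 2, 0, 4, 2, 3, 2, 1, 2, 0, 4, 0, 4, 2, 4, 4, 3, 2, 3, 4, 2, 0, 4, 0, 4, 2, 1, 0, 2, 0, 1, 1, 4, 2, 0, 2, 1, 3, 2, 1, 1, 0, 2, 0, 1, 1, 2, 1, 3, 1, 3, 2, 4, 4, 3, 2, 3, 4, 2, 1, 3, 1, 3, 2, 1, 0, 2, 0, 1, 1, 4, 2, 0, 4, 2, 3, 2, 1, 1, 0, 2, 0, 1, 1, 4, 2, 0,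 4, 2, 3, 2, 1, 2, 0, 4, 0, 4, 2, 4, 4, 3, 2, 3, 4, 2, 0, 4, 0, 4, 2, 2, 0, 4, 0, 4, 2, 1, 0, 2, 0, 1, 1, 2, 0, 4, 0, 4, 2, 4, 4, 3, 2, 3, 4, 4, 2, 0, 4, 2, 3, 2, 1, 4, 4, 3, 2, 3, 4, 2, 0, 4, 0, 4, 2, 1, 0, 2, 0, 1, 1, 2, 0, 4, 0, 4, 2, 4, 4, 3, 2, 3, 4, 4, 2, 0, 4, 2, 3, 2, 1, 4, 4, 3, 2, 3, 4, 2, 0, 4, 0, 4, 2, 1, 0, 2, 0, 1, 1, 2, 0, 4, 0, 4, 2, 4, 4, 3, 2, 3, 4, 4, 2, 0, 4, 2, 3, 2, 1, 4, 4, 3, 2, 3, 4, 1, 0, 2, 0, 1, 1, 4, 2, 0, 4, 2, 3, 2, 1, 1, 0, 2, 0, 1, 1, 4, 2, 0, 4, 2, 3, 2, 1, 2, 0, 4, 0, 4, 2, 4, 4, 3, 2, 3, 4, 2, 0, 4, 0, 4, 2, 1, 0, 2, 0, 1, 1, 4, 2, 0, 2, 1, 3, 2, 1, 1, 0, 2, 0, 1, 1, 2, 1, 3, 1, 3, 2,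 4, 4, 3, 2, 3, 4, 2, 1, 3, 1, 3, 2, 1, 0, 2, 0, 1, 1, 4, 2, 0, 4, 2, 3, 2, 1, 1, 0, 2, 0, 1, 1, 4, 2, 0, 4, 2, 3, 2, 1, 2, 0, 4, 0, 4, 2, 4, 4, 3, 2, 3, 4, 2, 0, 4, 0, 4, 2, 1, 0, 2, 0, 1, 1, 4, 2, 0, 4, 2, 3, 2, 1, 1, 0, 2, 0, 1, 1, 4, 2, 0, 4, 2, 3, 2, 1, 2, 0, 4, 0, 4, 2, 4, 4, 3, 2, 3, 4, 2, 0, 4, 0, 4, 2, 1, 0, 2, 0, 1, 1, 4, 2, 0, 4, 2, 3, 2, 1, 1, 0, 2, 0, 1, 1, 4, 2, 0, 4, 2, 3, 2, 1, 2, 0, 4, 0, 4, 2, 4, 4, 3, 2, 3, 4, 2, 0, 4, 0, 4, 2, 1, 0, 2, 0, 1, 1, 4, 2, 0, 2, 1, 3, 2, 1, 1, 0, 2, 0, 1, 1, 2, 1, 3, 1, 3, 2, 4, 4, 3, 2, 3, 4, 2, 1, 3, 1, 3, 2, 1, 0, 2, 0, 1, 1, 4, 2, 0, 4, 2, 3, 2, 1, 1, 0, 2, 0, 1, 1, 4,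 2, 0, 4, 2, 3, 2, 1, 2, 0, 4, 0, 4, 2, 4, 4, 3, 2, 3, 4, 2, 0, 4, 0, 4, 2, 1, 0, 2, 0, 1, 1, 4, 2, 0, 2, 1, 3, 2, 1, 1, 0, 2, 0, 1, 1, 2, 1, 3, 1, 3, 2, 4, 4, 3, 2, 3, 4, 2, 1, 3, 1, 3, 2, 1, 0, 2, 0, 1, 1, 4, 2, 0, 4, 2, 3, 2, 1, 1, 0, 2, 0, 1, 1, 4, 2, 0, 4, 2, 3, 2, 1, 2, 0, 4, 0, 4, 2, 4, 4, 3, 2, 3, 4, 2, 0, 4, 0, 4, 2, 2, 0, 4, 0, 4, 2, 1, 0, 2, 0, 1, 1, 2, 0, 4, 0, 4, 2, 4, 4, 3, 2, 3, 4, 4, 2, 0, 4, 2, 3, 2, 1, 4, 4, 3, 2, 3, 4, 2, 0, 4, 0, 4, 2, 1, 0, 2, 0, 1, 1, 2, 0, 4, 0, 4, 2, 4, 4, 3, 2, 3, 4, 4, 2, 0, 4, 2, 3, 2, 1, 4, 4, 3, 2, 3, 4]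

def genW1 : List ℕ := [2, 1, 3, 2, 0, 2, 0, 2, 4, 2, 0, 2, 1, 3, 2, 1, 4, 4, 3, 2, 3, 4, 4, 2, 0, 2, 1, 3, 2, 1, 4, 4, 3, 2, 3, 4, 2, 0, 4, 0, 4, 2, 4, 4, 3, 2, 3, 4, 2, 1, 3, 1, 3, 2, 4, 4, 3, 2, 3, 4, 2, 0, 4, 0, 4, 2, 4, 4, 3, 2, 3, 4, 2, 0, 4, 0, 4, 2, 1, 0, 2, 0, 1, 1, 2, 0, 4, 0, 4, 2, 4, 4, 3, 2, 3, 4, 4, 2, 0, 4, 2, 3, 2, 1, 4, 4, 3, 2, 3, 4, 2, 1, 3, 1, 3, 2, 1, 0, 2, 0, 1, 1, 2, 1, 3, 1, 3, 2, 4, 2, 0, 2, 1, 3, 2, 1, 4, 4, 3, 2, 3, 4, 4, 2, 0, 2, 1, 3, 2, 1, 4, 4, 3, 2, 3, 4, 2, 1, 3, 1, 3, 2, 1, 0, 2, 0, 1, 1, 2, 1, 3, 1, 3, 2, 4, 2, 0, 2, 1, 3, 2, 1, 4, 4, 3, 2, 3, 4, 4, 2, 0, 2, 1, 3, 2, 1, 4, 4, 3, 2, 3,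 4, 1, 0, 2, 0, 1, 1, 4, 2, 0, 2, 1, 3, 2, 1, 1, 0, 2, 0, 1, 1, 2, 1, 3, 1, 3, 2, 4, 4, 3, 2, 3, 4, 2, 1, 3, 1, 3, 2, 1, 0, 2, 0, 1, 1, 4, 2, 0, 4, 2, 3, 2, 1, 1, 0, 2, 0, 1, 1, 4, 2, 0, 4, 2, 3, 2, 1, 2, 0, 4, 0, 4, 2, 4, 4, 3, 2, 3, 4, 2, 0, 4, 0, 4, 2, 1, 0, 2, 0, 1, 1, 4, 2, 0, 4, 2, 3, 2, 1, 1, 0, 2, 0, 1, 1, 4, 2, 0, 4, 2, 3, 2, 1, 2, 0, 4, 0, 4, 2, 4, 4, 3, 2, 3, 4, 2, 0, 4, 0, 4, 2, 2, 0, 4, 0, 4, 2, 1, 0, 2, 0, 1, 1, 2, 0, 4, 0, 4, 2, 4, 4, 3, 2, 3, 4, 4, 2, 0, 4, 2, 3, 2, 1, 4, 4, 3, 2, 3, 4, 1, 0, 2, 0, 1, 1, 4, 2, 0, 2, 1, 3, 2, 1, 1, 0, 2, 0, 1, 1, 2, 1, 3, 1, 3, 2, 4, 4, 3, 2, 3, 4, 2, 1, 3, 1, 3, 2, 1, 0,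 2, 0, 1, 1, 4, 2, 0, 4, 2, 3, 2, 1, 1, 0, 2, 0, 1, 1, 4, 2, 0, 4, 2, 3, 2, 1, 2, 0, 4, 0, 4, 2, 4, 4, 3, 2, 3, 4, 2, 0, 4, 0, 4, 2, 1, 0, 2, 0, 1, 1, 4, 2, 0, 2, 1, 3, 2, 1, 1, 0, 2, 0, 1, 1, 2, 1, 3, 1, 3, 2, 4, 4, 3, 2, 3, 4, 2, 1, 3, 1, 3, 2, 1, 0, 2, 0, 1, 1, 4, 2, 0, 4, 2, 3, 2, 1, 1, 0, 2, 0, 1, 1, 4, 2, 0, 4, 2, 3, 2, 1, 2, 0, 4, 0, 4, 2, 4, 4, 3, 2, 3, 4, 2, 0, 4, 0, 4, 2, 2, 0, 4, 0, 4, 2, 1, 0, 2, 0, 1, 1, 2, 0, 4, 0, 4, 2, 4, 4, 3, 2, 3, 4, 4, 2, 0, 4, 2, 3, 2, 1, 4, 4, 3, 2, 3, 4, 2, 0, 4, 0, 4, 2, 1, 0, 2, 0, 1, 1, 2, 0, 4, 0, 4, 2, 4, 4, 3, 2, 3, 4, 4, 2, 0, 4, 2, 3, 2, 1, 4, 4, 3, 2, 3, 4, 1, 0, 2, 0, 1,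 1, 4, 2, 0, 2, 1, 3, 2, 1, 1, 0, 2, 0, 1, 1, 2, 1, 3, 1, 3, 2, 4, 4, 3, 2, 3, 4, 2, 1, 3, 1, 3, 2, 1, 0, 2, 0, 1, 1, 4, 2, 0, 4, 2, 3, 2, 1, 1, 0, 2, 0, 1, 1, 4, 2, 0, 4, 2, 3, 2, 1, 2, 0, 4, 0, 4, 2, 4, 4, 3, 2, 3, 4, 2, 0, 4, 0, 4, 2, 1, 0, 2, 0, 1, 1, 4, 2, 0, 2, 1, 3, 2, 1, 1, 0, 2, 0, 1, 1, 2, 1, 3, 1, 3, 2, 4, 4, 3, 2, 3, 4, 2, 1, 3, 1, 3, 2, 1, 0, 2, 0, 1, 1, 4, 2, 0, 4, 2, 3, 2, 1, 1, 0, 2, 0, 1, 1, 4, 2, 0, 4, 2, 3, 2, 1, 2, 0, 4, 0, 4, 2, 4, 4, 3, 2, 3, 4, 2, 0, 4, 0, 4, 2, 2, 0, 4, 0, 4, 2, 1, 0, 2, 0, 1, 1, 2, 0, 4, 0, 4, 2, 4, 4, 3, 2, 3, 4, 4, 2, 0, 4, 2, 3, 2, 1, 4, 4, 3, 2, 3, 4, 2, 0, 4, 0, 4, 2, 1, 0,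 2, 0, 1, 1, 2, 0, 4, 0, 4, 2, 4, 4, 3, 2, 3, 4, 4, 2, 0, 4, 2, 3, 2, 1, 4, 4, 3, 2, 3, 4, 2, 1, 3, 1, 3, 2, 1, 0, 2, 0, 1, 1, 2, 1, 3, 1, 3, 2, 4, 2, 0, 2, 1, 3, 2, 1, 4, 4, 3, 2, 3, 4, 4, 2, 0, 2, 1, 3, 2, 1, 4, 4, 3, 2, 3, 4, 2, 1, 3, 1, 3, 2, 1, 0, 2, 0, 1, 1, 2, 1, 3, 1, 3, 2, 4, 2, 0, 2, 1, 3, 2, 1, 4, 4, 3, 2, 3, 4, 4, 2, 0, 2, 1, 3, 2, 1, 4, 4, 3, 2, 3, 4, 2, 1, 3, 1, 3, 2, 1, 0, 2, 0, 1, 1, 2, 1, 3, 1, 3, 2, 4, 2, 0, 2, 1, 3, 2, 1, 4, 4, 3, 2, 3, 4, 4, 2, 0, 2, 1, 3, 2, 1, 4, 4, 3, 2, 3, 4, 2, 0, 4, 0, 4, 2, 1, 0, 2, 0, 1, 1, 2, 0, 4, 0, 4, 2, 4, 4, 3, 2, 3, 4, 4, 2, 0, 4, 2, 3, 2, 1, 4, 4, 3, 2, 3, 4, 2, 1, 3,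 1, 3, 2, 1, 0, 2, 0, 1, 1, 2, 1, 3, 1, 3, 2, 4, 2, 0, 2, 1, 3, 2, 1, 4, 4, 3, 2, 3, 4, 4, 2, 0, 2, 1, 3, 2, 1, 4, 4, 3, 2, 3, 4, 1, 0, 2, 0, 1, 1, 4, 2, 0, 2, 1, 3, 2, 1, 1, 0, 2, 0, 1, 1, 2, 1, 3, 1, 3, 2, 4, 4, 3, 2, 3, 4, 2, 1, 3, 1, 3, 2, 1, 0, 2, 0, 1, 1, 4, 2, 0, 2, 1, 3, 2, 1, 1, 0, 2, 0, 1, 1, 2, 1, 3, 1, 3, 2, 4, 4, 3, 2, 3, 4, 2, 1, 3, 1, 3, 2, 1, 0, 2, 0, 1, 1, 4, 2, 0, 4, 2, 3, 2, 1, 1, 0, 2, 0, 1, 1, 4, 2, 0, 4, 2, 3, 2, 1, 2, 0, 4, 0, 4, 2, 4, 4, 3, 2, 3, 4, 2, 0, 4, 0, 4, 2, 1, 0, 2, 0, 1, 1, 4, 2, 0, 2, 1, 3, 2, 1, 1, 0, 2, 0, 1, 1, 2, 1, 3, 1, 3, 2, 4, 4, 3, 2, 3, 4, 2, 1, 3, 1, 3, 2, 1, 0, 2, 0, 1, 1,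 4, 2, 0, 4, 2, 3, 2, 1, 1, 0, 2, 0, 1, 1, 4, 2, 0, 4, 2, 3, 2, 1, 2, 0, 4, 0, 4, 2, 4, 4, 3, 2, 3, 4, 2, 0, 4, 0, 4, 2, 2, 0, 4, 0, 4, 2, 1, 0, 2, 0, 1, 1, 2, 0, 4, 0, 4, 2, 4, 4, 3, 2, 3, 4, 4, 2, 0, 4, 2, 3, 2, 1, 4, 4, 3, 2, 3, 4, 2, 0, 4, 0, 4, 2, 1, 0, 2, 0, 1, 1, 2, 0, 4, 0, 4, 2, 4, 4, 3, 2, 3, 4, 4, 2, 0, 4, 2, 3, 2, 1, 4, 4, 3, 2, 3, 4, 2, 1, 3, 1, 3, 2, 1, 0, 2, 0, 1, 1, 2, 1, 3, 1, 3, 2, 4, 2, 0, 2, 1, 3, 2, 1, 4, 4, 3, 2, 3, 4, 4, 2, 0, 2, 1, 3, 2, 1, 4, 4, 3, 2, 3, 4, 2, 1, 3, 1, 3, 2, 1, 0, 2, 0, 1, 1, 2, 1, 3, 1, 3, 2, 4, 2, 0, 2, 1, 3, 2, 1, 4, 4, 3, 2, 3, 4, 4, 2, 0, 2, 1, 3, 2, 1, 4, 4, 3, 2, 3, 4, 2,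 1, 3, 1, 3, 2, 1, 0, 2, 0, 1, 1, 2, 1, 3, 1, 3, 2, 4, 2, 0, 2, 1, 3, 2, 1, 4, 4, 3, 2, 3, 4, 4, 2, 0, 2, 1, 3, 2, 1, 4, 4, 3, 2, 3, 4, 2, 0, 4, 0, 4, 2, 1, 0, 2, 0, 1, 1, 2, 0, 4, 0, 4, 2, 4, 4, 3, 2, 3, 4, 4, 2, 0, 4, 2, 3, 2, 1, 4, 4, 3, 2, 3, 4, 2, 1, 3, 1, 3, 2, 1, 0, 2, 0, 1, 1, 2, 1, 3, 1, 3, 2, 4, 2, 0, 2, 1, 3, 2, 1, 4, 4, 3, 2, 3, 4, 4, 2, 0, 2, 1, 3, 2, 1, 4, 4, 3, 2, 3, 4, 1, 0, 2, 0, 1, 1, 4, 2, 0, 2, 1, 3, 2, 1, 1, 0, 2, 0, 1, 1, 2, 1, 3, 1, 3, 2, 4, 4, 3, 2, 3, 4, 2, 1, 3, 1, 3, 2]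

def genW2 : List ℕ := [4, 3, 2, 3, 4, 2, 0, 2, 1, 3, 2, 1, 4, 4, 3, 2, 3, 4, 4, 2, 0, 2, 1, 3, 2, 1, 4, 4, 3, 2, 3, 4, 4, 2, 0, 4, 2, 3, 2, 1, 1, 0, 2, 0, 1, 1, 4, 2, 0, 2, 1, 3, 2, 1, 1, 0, 2, 0, 1, 1, 2, 1, 3, 1, 3, 2, 4, 4, 3, 2, 3, 4, 2, 1, 3, 1, 3, 2, 1, 0, 2, 0, 1, 1, 4, 2, 0, 4, 2, 3, 2, 1, 1, 0, 2, 0, 1, 1, 4, 2, 0, 4, 2, 3, 2, 1, 2, 0, 4, 0, 4, 2, 4, 4, 3, 2, 3, 4, 2, 0, 4, 0, 4, 2, 2, 0, 4, 0, 4, 2, 1, 0, 2, 0, 1, 1, 2, 0, 4, 0, 4, 2, 4, 4, 3, 2, 3, 4, 4, 2, 0, 4, 2, 3, 2, 1, 4, 4, 3, 2, 3, 4, 2, 0, 4, 0, 4, 2, 1, 0, 2, 0, 1, 1, 2, 0, 4, 0, 4, 2, 4, 4, 3, 2, 3, 4, 4, 2, 0, 4, 2, 3, 2, 1, 4, 4, 3, 2, 3, 4, 1,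 0, 2, 0, 1, 1, 4, 2, 0, 4, 2, 3, 2, 1, 1, 0, 2, 0, 1, 1, 4, 2, 0, 4, 2, 3, 2, 1, 2, 0, 4, 0, 4, 2, 4, 4, 3, 2, 3, 4, 2, 0, 4, 0, 4, 2, 1, 0, 2, 0, 1, 1, 4, 2, 0, 4, 2, 3, 2, 1, 1, 0, 2, 0, 1, 1, 4, 2, 0, 4, 2, 3, 2, 1, 2, 0, 4, 0, 4, 2, 4, 4, 3, 2, 3, 4, 2, 0, 4, 0, 4, 2, 1, 0, 2, 0, 1, 1, 4, 2, 0, 2, 1, 3, 2, 1, 1, 0, 2, 0, 1, 1, 2, 1, 3, 1, 3, 2, 4, 4, 3, 2, 3, 4, 2, 1, 3, 1, 3, 2, 2, 1, 3, 1, 3, 2, 1, 0, 2, 0, 1, 1, 2, 1, 3, 1, 3, 2, 4, 2, 0, 2, 1, 3, 2, 1, 4, 4, 3, 2, 3, 4, 4, 2, 0, 2, 1, 3, 2, 1, 4, 4, 3, 2, 3, 4, 2, 1, 3, 1, 3, 2, 1, 0, 2, 0, 1, 1, 2, 1, 3, 1, 3, 2, 4, 2, 0, 2, 1, 3, 2, 1, 4, 4, 3, 2, 3, 4, 4, 2,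 0, 2, 1, 3, 2, 1, 4, 4, 3, 2, 3, 4, 2, 1, 3, 1, 3, 2, 1, 0, 2, 0, 1, 1, 2, 1, 3, 1, 3, 2, 4, 2, 0, 2, 1, 3, 2, 1, 4, 4, 3, 2, 3, 4, 4, 2, 0, 2, 1, 3, 2, 1, 4, 4, 3, 2, 3, 4, 2, 0, 4, 0, 4, 2, 1, 0, 2, 0, 1, 1, 2, 0, 4, 0, 4, 2, 4, 4, 3, 2, 3, 4, 4, 2, 0, 4, 2, 3, 2, 1, 4, 4, 3, 2, 3, 4, 2, 1, 3, 1, 3, 2, 1, 0, 2, 0, 1, 1, 2, 1, 3, 1, 3, 2, 4, 2, 0, 2, 1, 3, 2, 1, 4, 4, 3, 2, 3, 4, 4, 2, 0, 2, 1, 3, 2, 1, 4, 4, 3, 2, 3, 4, 1, 0, 2, 0, 1, 1, 4, 2, 0, 2, 1, 3, 2, 1, 1, 0, 2, 0, 1, 1, 2, 1, 3, 1, 3, 2, 4, 4, 3, 2, 3, 4, 2, 1, 3, 1, 3, 2, 2, 1, 3, 1, 3, 2, 1, 0, 2, 0, 1, 1, 2, 1, 3, 1, 3, 2, 4, 2, 0, 2, 1, 3, 2, 1, 4, 4, 3,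 2, 3, 4, 4, 2, 0, 2, 1, 3, 2, 1, 4, 4, 3, 2, 3, 4, 2, 1, 3, 1, 3, 2, 1, 0, 2, 0, 1, 1, 2, 1, 3, 1, 3, 2, 4, 2, 0, 2, 1, 3, 2, 1, 4, 4, 3, 2, 3, 4, 4, 2, 0, 2, 1, 3, 2, 1, 4, 4, 3, 2, 3, 4, 2, 1, 3, 1, 3, 2, 1, 0, 2, 0, 1, 1, 2, 1, 3, 1, 3, 2, 4, 2, 0, 2, 1, 3, 2, 1, 4, 4, 3, 2, 3, 4, 4, 2, 0, 2, 1, 3, 2, 1, 4, 4, 3, 2, 3, 4, 2, 0, 4, 0, 4, 2, 1, 0, 2, 0, 1, 1, 2, 0, 4, 0, 4, 2, 4, 4, 3, 2, 3, 4, 4, 2, 0, 4, 2, 3, 2, 1, 4, 4, 3, 2, 3, 4, 2, 1, 3, 1, 3, 2, 1, 0, 2, 0, 1, 1, 2, 1, 3, 1, 3, 2, 4, 2, 0, 2, 1, 3, 2, 1, 4, 4, 3, 2, 3, 4, 4, 2, 0, 2, 1, 3, 2, 1, 4, 4, 3, 2, 3, 4, 1, 0, 2, 0, 1, 1, 4, 2, 0, 2, 1, 3, 2, 1, 1, 0,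 2, 0, 1, 1, 2, 1, 3, 1, 3, 2, 4, 4, 3, 2, 3, 4, 2, 1, 3, 1, 3, 2, 1, 0, 2, 0, 1, 1, 4, 2, 0, 2, 1, 3, 2, 1, 1, 0, 2, 0, 1, 1, 2, 1, 3, 1, 3, 2, 4, 4, 3, 2, 3, 4, 2, 1, 3, 1, 3, 2, 1, 0, 2, 0, 1, 1, 4, 2, 0, 4, 2, 3, 2, 1, 1, 0, 2, 0, 1, 1, 4, 2, 0, 4, 2, 3, 2, 1, 2, 0, 4, 0, 4, 2, 4, 4, 3, 2, 3, 4, 2, 0, 4, 0, 4, 2, 1, 0, 2, 0, 1, 1, 4, 2, 0, 2, 1, 3, 2, 1, 1, 0, 2, 0, 1, 1, 2, 1, 3, 1, 3, 2, 4, 4, 3, 2, 3, 4, 2, 1, 3, 1, 3, 2, 1, 0, 2, 0, 1, 1, 4, 2, 0, 4, 2, 3, 2, 1, 1, 0, 2, 0, 1, 1, 4, 2, 0, 4, 2, 3, 2, 1, 2, 0, 4, 0, 4, 2, 4, 4, 3, 2, 3, 4, 2, 0, 4, 0, 4, 2, 2, 0, 4, 0, 4, 2, 1, 0, 2, 0, 1, 1, 2, 0, 4, 0, 4, 2, 4,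 4, 3, 2, 3, 4, 4, 2, 0, 4, 2, 3, 2, 1, 4, 4, 3, 2, 3, 4, 2, 0, 4, 0, 4, 2, 1, 0, 2, 0, 1, 1, 2, 0, 4, 0, 4, 2, 4, 4, 3, 2, 3, 4, 4, 2, 0, 4, 2, 3, 2, 1, 4, 4, 3, 2, 3, 4, 1, 0, 2, 0, 1, 1, 4, 2, 0, 2, 1, 3, 2, 1, 1, 0, 2, 0, 1, 1, 2, 1, 3, 1, 3, 2, 4, 4, 3, 2, 3, 4, 2, 1, 3, 1, 3, 2, 1, 0, 2, 0, 1, 1, 4, 2, 0, 4, 2, 3, 2, 1, 1, 0, 2, 0, 1, 1, 4, 2, 0, 4, 2, 3, 2, 1, 2, 0, 4, 0, 4, 2, 4, 4, 3, 2, 3, 4, 2, 0, 4, 0, 4, 2, 1, 0, 2, 0, 1, 1, 4, 2, 0, 2, 1, 3, 2, 1, 1, 0, 2, 0, 1, 1, 2, 1, 3, 1, 3, 2, 4, 4, 3, 2, 3, 4, 2, 1, 3, 1, 3, 2, 1, 0, 2, 0, 1, 1, 4, 2, 0, 4, 2, 3, 2, 1, 1, 0, 2, 0, 1, 1, 4, 2, 0, 4, 2, 3, 2, 1, 2, 0,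 4, 0, 4, 2, 4, 4, 3, 2, 3, 4, 2, 0, 4, 0, 4, 2, 2, 0, 4, 0, 4, 2, 1, 0, 2, 0, 1, 1, 2, 0, 4, 0, 4, 2, 4, 4, 3, 2, 3, 4, 4, 2, 0, 4, 2, 3, 2, 1, 4, 4, 3, 2, 3, 4, 2, 0, 4, 0, 4, 2, 1, 0, 2, 0, 1, 1, 2, 0, 4, 0, 4, 2, 4, 4, 3, 2, 3, 4, 4, 2, 0, 4, 2, 3, 2, 1, 4, 4, 3, 2, 3, 4]

def genW3 : List ℕ := [2, 0, 4, 0, 4, 2, 4, 4, 3, 2, 3, 4, 4, 2, 0, 2, 1, 3, 2, 1, 4, 4, 3, 2, 3, 4, 4, 2, 0, 4, 2, 3, 2, 1, 4, 4, 3, 2, 3, 4, 2, 1, 3, 1, 3, 2, 2, 0, 4, 0, 4, 2, 1, 0, 2, 0, 1, 1, 2, 0, 4, 0, 4, 2, 4, 4, 3, 2, 3, 4, 4, 2, 0, 4, 2, 3, 2, 1, 4, 4, 3, 2, 3, 4, 2, 0, 4, 0, 4, 2, 1, 0, 2, 0, 1, 1, 2, 0, 4, 0, 4, 2, 4, 4, 3, 2, 3, 4, 4,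 2, 0, 4, 2, 3, 2, 1, 4, 4, 3, 2, 3, 4, 2, 1, 3, 1, 3, 2, 1, 0, 2, 0, 1, 1, 2, 1, 3, 1, 3, 2, 4, 2, 0, 2, 1, 3, 2, 1, 4, 4, 3, 2, 3, 4, 4, 2, 0, 2, 1, 3, 2, 1, 4, 4, 3, 2, 3, 4, 1, 0, 2, 0, 1, 1, 4, 2, 0, 2, 1, 3, 2, 1, 1, 0, 2, 0, 1, 1, 2, 1, 3, 1, 3, 2, 4, 4, 3, 2, 3, 4, 2, 1, 3, 1, 3, 2, 2, 1, 3, 1, 3, 2, 1, 0, 2, 0, 1, 1, 2, 1, 3, 1, 3, 2, 4, 2, 0, 2, 1, 3, 2, 1, 4, 4, 3, 2, 3, 4, 4, 2, 0, 2, 1, 3, 2, 1, 4, 4, 3, 2, 3, 4, 2, 1, 3, 1, 3, 2, 1, 0, 2, 0, 1, 1, 2, 1, 3, 1, 3, 2, 4, 2, 0, 2, 1, 3, 2, 1, 4, 4, 3, 2, 3, 4, 4, 2, 0, 2, 1, 3, 2, 1, 4, 4, 3, 2, 3, 4, 2, 1, 3, 1, 3, 2, 1, 0, 2, 0, 1, 1, 2, 1, 3, 1, 3, 2, 4, 2,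 0, 2, 1, 3, 2, 1, 4, 4, 3, 2, 3, 4, 4, 2, 0, 2, 1, 3, 2, 1, 4, 4, 3, 2, 3, 4, 2, 1, 3, 1, 3, 2, 1, 0, 2, 0, 1, 1, 2, 1, 3, 1, 3, 2, 4, 2, 0, 2, 1, 3, 2, 1, 4, 4, 3, 2, 3, 4, 4, 2, 0, 2, 1, 3, 2, 1, 4, 4, 3, 2, 3, 4, 2, 0, 4, 0, 4, 2, 1, 0, 2, 0, 1, 1, 2, 0, 4, 0, 4, 2, 4, 4, 3, 2, 3, 4, 4, 2, 0, 4, 2, 3, 2, 1, 4, 4, 3, 2, 3, 4, 2, 1, 3, 1, 3, 2, 1, 0, 2, 0, 1, 1, 2, 1, 3, 1, 3, 2, 4, 2, 0, 2, 1, 3, 2, 1, 4, 4, 3, 2, 3, 4, 4, 2, 0, 2, 1, 3, 2, 1, 4, 4, 3, 2, 3, 4, 1, 0, 2, 0, 1, 1, 4, 2, 0, 2, 1, 3, 2, 1, 1, 0, 2, 0, 1, 1, 2, 1, 3, 1, 3, 2, 4, 4, 3, 2, 3, 4, 2, 1, 3, 1, 3, 2, 1, 0, 2, 0, 1, 1, 4, 2, 0, 2, 1, 3, 2, 1, 1,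 0, 2, 0, 1, 1, 2, 1, 3, 1, 3, 2, 4, 4, 3, 2, 3, 4, 2, 1, 3, 1, 3, 2, 1, 0, 2, 0, 1, 1, 4, 2, 0, 2, 1, 3, 2, 1, 1, 0, 2, 0, 1, 1, 2, 1, 3, 1, 3, 2, 4, 4, 3, 2, 3, 4, 2, 1, 3, 1, 3, 2, 2, 1, 3, 1, 3, 2, 1, 0, 2, 0, 1, 1, 2, 1, 3, 1, 3, 2, 4, 2, 0, 2, 1, 3, 2, 1, 4, 4, 3, 2, 3, 4, 4, 2, 0, 2, 1, 3, 2, 1, 4, 4, 3, 2, 3, 4, 2, 0, 4, 0, 4, 2, 1, 0, 2, 0, 1, 1, 2, 0, 4, 0, 4, 2, 4, 4, 3, 2, 3, 4, 4, 2, 0, 4, 2, 3, 2, 1, 4, 4, 3, 2, 3, 4, 2, 1, 3, 1, 3, 2, 1, 0, 2, 0, 1, 1, 2, 1, 3, 1, 3, 2, 4, 2, 0, 2, 1, 3, 2, 1, 4, 4, 3, 2, 3, 4, 4, 2, 0, 2, 1, 3, 2, 1, 4, 4, 3, 2, 3, 4, 2, 0, 4, 0, 4, 2, 1, 0, 2, 0, 1, 1, 2, 0, 4, 0, 4, 2,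 4, 4, 3, 2, 3, 4, 4, 2, 0, 4, 2, 3, 2, 1, 4, 4, 3, 2, 3, 4, 2, 1, 3, 1, 3, 2, 1, 0, 2, 0, 1, 1, 2, 1, 3, 1, 3, 2, 4, 2, 0, 2, 1, 3, 2, 1, 4, 4, 3, 2, 3, 4, 4, 2, 0, 2, 1, 3, 2, 1, 4, 4, 3, 2, 3, 4, 2, 1, 3, 1, 3, 2, 1, 0, 2, 0, 1, 1, 2, 1, 3, 1, 3, 2, 4, 2, 0, 2, 1, 3, 2, 1, 4, 4, 3, 2, 3, 4, 4, 2, 0, 2, 1, 3, 2, 1, 4, 4, 3, 2, 3, 4, 2, 1, 3, 1, 3, 2, 1, 0, 2, 0, 1, 1, 2, 1, 3, 1, 3, 2, 4, 2, 0, 2, 1, 3, 2, 1, 4, 4, 3, 2, 3, 4, 4, 2, 0, 2, 1, 3, 2, 1, 4, 4, 3, 2, 3, 4, 2, 0, 4, 0, 4, 2, 1, 0, 2, 0, 1, 1, 2, 0, 4, 0, 4, 2, 4, 4, 3, 2, 3, 4, 4, 2, 0, 4, 2, 3, 2, 1, 4, 4, 3, 2, 3, 4, 2, 1, 3, 1, 3, 2, 1, 0, 2, 0, 1, 1, 2,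 1, 3, 1, 3, 2, 4, 2, 0, 2, 1, 3, 2, 1, 4, 4, 3, 2, 3, 4, 4, 2, 0, 2, 1, 3, 2, 1, 4, 4, 3, 2, 3, 4, 1, 0, 2, 0, 1, 1, 4, 2, 0, 2, 1, 3, 2, 1, 1, 0, 2, 0, 1, 1, 2, 1, 3, 1, 3, 2, 4, 4, 3, 2, 3, 4, 2, 1, 3, 1, 3, 2, 1, 0, 2, 0, 1, 1, 4, 2, 0, 2, 1, 3, 2, 1, 1, 0, 2, 0, 1, 1, 2, 1, 3, 1, 3, 2, 4, 4, 3, 2, 3, 4, 2, 1, 3, 1, 3, 2, 1, 0, 2, 0, 1, 1, 4, 2, 0, 4, 2, 3, 2, 1, 1, 0, 2, 0, 1, 1, 4, 2, 0, 4, 2, 3, 2, 1, 2, 0, 4, 0, 4, 2, 4, 4, 3, 2, 3, 4, 2, 0, 4, 0, 4, 2, 1, 0, 2, 0, 1, 1, 4, 2, 0, 2, 1, 3, 2, 1, 1, 0, 2, 0, 1, 1, 2, 1, 3, 1, 3, 2, 4, 4, 3, 2, 3, 4, 2, 1, 3, 1, 3, 2, 1, 0, 2, 0, 1, 1, 4, 2, 0, 4, 2, 3, 2, 1, 1, 0,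 2, 0, 1, 1, 4, 2, 0, 4, 2, 3, 2, 1, 2, 0, 4, 0, 4, 2, 4, 4, 3, 2, 3, 4, 2, 0, 4, 0, 4, 2, 2, 0, 4, 0, 4, 2, 1, 0, 2, 0, 1, 1, 2, 0, 4, 0, 4, 2, 4, 4, 3, 2, 3, 4, 4, 2, 0, 4, 2, 3, 2, 1, 4, 4, 3, 2, 3, 4, 2, 0, 4, 0, 4, 2, 1, 0, 2, 0, 1, 1, 2, 0, 4, 0, 4, 2, 4, 4, 3, 2, 3, 4, 4, 2, 0, 4, 2, 3, 2, 1, 4, 4, 3, 2, 3, 4, 2, 0, 4, 0, 4, 2, 1, 0, 2, 0, 1, 1, 2, 0, 4, 0, 4, 2, 4, 4, 3, 2, 3, 4, 4, 2, 0, 4, 2, 3, 2, 1, 4, 4, 3, 2, 3, 4, 1, 0, 2, 0, 1, 1, 4, 2, 0, 4, 2, 3, 2, 1, 1, 0, 2, 0, 1, 1, 4, 2, 0, 4, 2, 3, 2, 1, 2, 0, 4, 0, 4, 2, 4, 4, 3, 2, 3, 4, 2, 0, 4, 0, 4, 2, 1, 0, 2, 0, 1, 1, 4, 2, 0, 2, 1, 3, 2, 1, 1, 0, 2, 0, 1,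 1, 2, 1, 3, 1, 3, 2, 4, 4, 3, 2, 3, 4, 2, 1, 3, 1, 3, 2, 1, 0, 2, 0, 1, 1, 4, 2, 0, 4, 2, 3, 2, 1, 1, 0, 2, 0, 1, 1, 4, 2, 0, 4, 2, 3, 2, 1, 2, 0, 4, 0, 4, 2, 4, 4, 3, 2, 3, 4, 2, 0, 4, 0, 4, 2, 1, 0, 2, 0, 1, 1, 4, 2, 0, 4, 2, 3, 2, 1, 1, 0, 2, 0, 1, 1, 4, 2, 0, 4, 2, 3, 2, 1, 2, 0, 4, 0, 4, 2, 4, 4, 3, 2, 3, 4, 2, 0, 4, 0, 4, 2, 1, 0, 2, 0, 1, 1, 4, 2, 0, 4, 2, 3, 2, 1, 1, 0, 2, 0, 1, 1, 4, 2, 0, 4, 2, 3, 2, 1, 2, 0, 4, 0, 4, 2, 4, 4, 3, 2, 3, 4, 2, 0, 4, 0, 4, 2, 1, 0, 2, 0, 1, 1, 4, 2, 0, 2, 1, 3, 2, 1, 1, 0, 2, 0, 1, 1, 2, 1, 3, 1, 3, 2, 4, 4, 3, 2, 3, 4, 2, 1, 3, 1, 3, 2, 1, 0, 2, 0, 1, 1, 4, 2, 0, 2, 1, 3, 2, 1,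 1, 0, 2, 0, 1, 1, 2, 1, 3, 1, 3, 2, 4, 4, 3, 2, 3, 4, 2, 1, 3, 1, 3, 2, 2, 1, 3, 1, 3, 2, 1, 0, 2, 0, 1, 1, 2, 1, 3, 1, 3, 2, 4, 2, 0, 2, 1, 3, 2, 1, 4, 4, 3, 2, 3, 4, 4, 2, 0, 2, 1, 3, 2, 1, 4, 4, 3, 2, 3, 4, 2, 0, 4, 0, 4, 2, 1, 0, 2, 0, 1, 1, 2, 0, 4, 0, 4, 2, 4, 4, 3, 2, 3, 4, 4, 2, 0, 4, 2, 3, 2, 1, 4, 4, 3, 2, 3, 4, 2, 1, 3, 1, 3, 2, 1, 0, 2, 0, 1, 1, 2, 1, 3, 1, 3, 2, 4, 2, 0, 2, 1, 3, 2, 1, 4, 4, 3, 2, 3, 4, 4, 2, 0, 2, 1, 3, 2, 1, 4, 4, 3, 2, 3, 4, 2, 0, 4, 0, 4, 2, 1, 0, 2, 0, 1, 1, 2, 0, 4, 0, 4, 2, 4, 4, 3, 2, 3, 4, 4, 2, 0, 4, 2, 3, 2, 1, 4, 4, 3, 2, 3, 4]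

def genW4 : List ℕ := [4, 2, 0, 4, 2, 3, 2, 1, 4, 4, 3, 2, 3, 4, 4, 2, 0, 4, 2, 3, 2, 1, 2, 0, 4, 0, 4, 2, 4, 4, 3, 2, 3, 4, 2, 0, 4, 0, 4, 2, 4, 4, 3, 2, 3, 4, 1, 0, 2, 0, 1, 1, 4, 2, 0, 4, 2, 3, 2, 1, 1, 0, 2, 0, 1, 1, 4, 2, 0, 4, 2, 3, 2, 1, 2, 0, 4, 0, 4, 2, 4, 4, 3, 2, 3, 4, 2, 0, 4, 0, 4, 2, 1, 0, 2, 0, 1, 1, 4, 2, 0, 4, 2, 3, 2, 1, 1, 0, 2, 0, 1, 1, 4, 2, 0, 4, 2, 3, 2, 1, 2, 0, 4, 0, 4, 2, 4, 4, 3, 2, 3, 4, 2, 0, 4, 0, 4, 2, 1, 0, 2, 0, 1, 1, 4, 2, 0, 2, 1, 3, 2, 1, 1, 0, 2, 0, 1, 1, 2, 1, 3, 1, 3, 2, 4, 4, 3, 2, 3, 4, 2, 1, 3, 1, 3, 2, 2, 1, 3, 1, 3, 2, 1, 0, 2, 0, 1, 1, 2, 1, 3, 1, 3, 2, 4, 2, 0, 2, 1, 3, 2,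 1, 4, 4, 3, 2, 3, 4, 4, 2, 0, 2, 1, 3, 2, 1, 4, 4, 3, 2, 3, 4, 2, 0, 4, 0, 4, 2, 1, 0, 2, 0, 1, 1, 2, 0, 4, 0, 4, 2, 4, 4, 3, 2, 3, 4, 4, 2, 0, 4, 2, 3, 2, 1, 4, 4, 3, 2, 3, 4, 2, 1, 3, 1, 3, 2, 1, 0, 2, 0, 1, 1, 2, 1, 3, 1, 3, 2, 4, 2, 0, 2, 1, 3, 2, 1, 4, 4, 3, 2, 3, 4, 4, 2, 0, 2, 1, 3, 2, 1, 4, 4, 3, 2, 3, 4, 2, 1, 3, 1, 3, 2, 1, 0, 2, 0, 1, 1, 2, 1, 3, 1, 3, 2, 4, 2, 0, 2, 1, 3, 2, 1, 4, 4, 3, 2, 3, 4, 4, 2, 0, 2, 1, 3, 2, 1, 4, 4, 3, 2, 3, 4, 2, 1, 3, 1, 3, 2, 1, 0, 2, 0, 1, 1, 2, 1, 3, 1, 3, 2, 4, 2, 0, 2, 1, 3, 2, 1, 4, 4, 3, 2, 3, 4, 4, 2, 0, 2, 1, 3, 2, 1, 4, 4, 3, 2, 3, 4, 2, 1, 3, 1, 3, 2, 1, 0, 2, 0, 1, 1,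 2, 1, 3, 1, 3, 2, 4, 2, 0, 2, 1, 3, 2, 1, 4, 4, 3, 2, 3, 4, 4, 2, 0, 2, 1, 3, 2, 1, 4, 4, 3, 2, 3, 4, 2, 0, 4, 0, 4, 2, 1, 0, 2, 0, 1, 1, 2, 0, 4, 0, 4, 2, 4, 4, 3, 2, 3, 4, 4, 2, 0, 4, 2, 3, 2, 1, 4, 4, 3, 2, 3, 4, 2, 1, 3, 1, 3, 2, 1, 0, 2, 0, 1, 1, 2, 1, 3, 1, 3, 2, 4, 2, 0, 2, 1, 3, 2, 1, 4, 4, 3, 2, 3, 4, 4, 2, 0, 2, 1, 3, 2, 1, 4, 4, 3, 2, 3, 4, 1, 0, 2, 0, 1, 1, 4, 2, 0, 2, 1, 3, 2, 1, 1, 0, 2, 0, 1, 1, 2, 1, 3, 1, 3, 2, 4, 4, 3, 2, 3, 4, 2, 1, 3, 1, 3, 2, 1, 0, 2, 0, 1, 1, 4, 2, 0, 2, 1, 3, 2, 1, 1, 0, 2, 0, 1, 1, 2, 1, 3, 1, 3, 2, 4, 4, 3, 2, 3, 4, 2, 1, 3, 1, 3, 2, 1, 0, 2, 0, 1, 1, 4, 2, 0, 4, 2, 3, 2, 1, 1,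 0, 2, 0, 1, 1, 4, 2, 0, 4, 2, 3, 2, 1, 2, 0, 4, 0, 4, 2, 4, 4, 3, 2, 3, 4, 2, 0, 4, 0, 4, 2, 1, 0, 2, 0, 1, 1, 4, 2, 0, 2, 1, 3, 2, 1, 1, 0, 2, 0, 1, 1, 2, 1, 3, 1, 3, 2, 4, 4, 3, 2, 3, 4, 2, 1, 3, 1, 3, 2, 1, 0, 2, 0, 1, 1, 4, 2, 0, 4, 2, 3, 2, 1, 1, 0, 2, 0, 1, 1, 4, 2, 0, 4, 2, 3, 2, 1, 2, 0, 4, 0, 4, 2, 4, 4, 3, 2, 3, 4, 2, 0, 4, 0, 4, 2, 2, 0, 4, 0, 4, 2, 1, 0, 2, 0, 1, 1, 2, 0, 4, 0, 4, 2, 4, 4, 3, 2, 3, 4, 4, 2, 0, 4, 2, 3, 2, 1, 4, 4, 3, 2, 3, 4, 2, 0, 4, 0, 4, 2, 1, 0, 2, 0, 1, 1, 2, 0, 4, 0, 4, 2, 4, 4, 3, 2, 3, 4, 4, 2, 0, 4, 2, 3, 2, 1, 4, 4, 3, 2, 3, 4, 2, 1, 3, 1, 3, 2, 1, 0, 2, 0, 1, 1, 2, 1, 3, 1, 3, 2,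 4, 2, 0, 2, 1, 3, 2, 1, 4, 4, 3, 2, 3, 4, 4, 2, 0, 2, 1, 3, 2, 1, 4, 4, 3, 2, 3, 4, 2, 1, 3, 1, 3, 2, 1, 0, 2, 0, 1, 1, 2, 1, 3, 1, 3, 2, 4, 2, 0, 2, 1, 3, 2, 1, 4, 4, 3, 2, 3, 4, 4, 2, 0, 2, 1, 3, 2, 1, 4, 4, 3, 2, 3, 4, 2, 1, 3, 1, 3, 2, 1, 0, 2, 0, 1, 1, 2, 1, 3, 1, 3, 2, 4, 2, 0, 2, 1, 3, 2, 1, 4, 4, 3, 2, 3, 4, 4, 2, 0, 2, 1, 3, 2, 1, 4, 4, 3, 2, 3, 4, 2, 0, 4, 0, 4, 2, 1, 0, 2, 0, 1, 1, 2, 0, 4, 0, 4, 2, 4, 4, 3, 2, 3, 4, 4, 2, 0, 4, 2, 3, 2, 1, 4, 4, 3, 2, 3, 4, 2, 1, 3, 1, 3, 2, 1, 0, 2, 0, 1, 1, 2, 1, 3, 1, 3, 2, 4, 2, 0, 2, 1, 3, 2, 1, 4, 4, 3, 2, 3, 4, 4, 2, 0, 2, 1, 3, 2, 1, 4, 4, 3, 2, 3, 4, 1, 0, 2, 0, 1,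 1, 4, 2, 0, 2, 1, 3, 2, 1, 1, 0, 2, 0, 1, 1, 2, 1, 3, 1, 3, 2, 4, 4, 3, 2, 3, 4, 2, 1, 3, 1, 3, 2, 1, 0, 2, 0, 1, 1, 4, 2, 0, 2, 1, 3, 2, 1, 1, 0, 2, 0, 1, 1, 2, 1, 3, 1, 3, 2, 4, 4, 3, 2, 3, 4, 2, 1, 3, 1, 3, 2, 1, 0, 2, 0, 1, 1, 4, 2, 0, 2, 1, 3, 2, 1, 1, 0, 2, 0, 1, 1, 2, 1, 3, 1, 3, 2, 4, 4, 3, 2, 3, 4, 2, 1, 3, 1, 3, 2, 2, 1, 3, 1, 3, 2, 1, 0, 2, 0, 1, 1, 2, 1, 3, 1, 3, 2, 4, 2, 0, 2, 1, 3, 2, 1, 4, 4, 3, 2, 3, 4, 4, 2, 0, 2, 1, 3, 2, 1, 4, 4, 3, 2, 3, 4, 2, 0, 4, 0, 4, 2, 1, 0, 2, 0, 1, 1, 2, 0, 4, 0, 4, 2, 4, 4, 3, 2, 3, 4, 4, 2, 0, 4, 2, 3, 2, 1, 4, 4, 3, 2, 3, 4, 2, 1, 3, 1, 3, 2, 1, 0, 2, 0, 1, 1, 2, 1, 3, 1,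 3, 2, 4, 2, 0, 2, 1, 3, 2, 1, 4, 4, 3, 2, 3, 4, 4, 2, 0, 2, 1, 3, 2, 1, 4, 4, 3, 2, 3, 4, 2, 0, 4, 0, 4, 2, 1, 0, 2, 0, 1, 1, 2, 0, 4, 0, 4, 2, 4, 4, 3, 2, 3, 4, 4, 2, 0, 4, 2, 3, 2, 1, 4, 4, 3, 2, 3, 4, 2, 0, 4, 0, 4, 2, 1, 0, 2, 0, 1, 1, 2, 0, 4, 0, 4, 2, 4, 4, 3, 2, 3, 4, 4, 2, 0, 4, 2, 3, 2, 1, 4, 4, 3, 2, 3, 4, 1, 0, 2, 0, 1, 1, 4, 2, 0, 4, 2, 3, 2, 1, 1, 0, 2, 0, 1, 1, 4, 2, 0, 4, 2, 3, 2, 1, 2, 0, 4, 0, 4, 2, 4, 4, 3, 2, 3, 4, 2, 0, 4, 0, 4, 2, 1, 0, 2, 0, 1, 1, 4, 2, 0, 2, 1, 3, 2, 1, 1, 0, 2, 0, 1, 1, 2, 1, 3, 1, 3, 2, 4, 4, 3, 2, 3, 4, 2, 1, 3, 1, 3, 2, 1, 0, 2, 0, 1, 1, 4, 2, 0, 4, 2, 3, 2, 1, 1, 0, 2, 0, 1,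 1, 4, 2, 0, 4, 2, 3, 2, 1, 2, 0, 4, 0, 4, 2, 4, 4, 3, 2, 3, 4, 2, 0, 4, 0, 4, 2, 1, 0, 2, 0, 1, 1, 4, 2, 0, 4, 2, 3, 2, 1, 1, 0, 2, 0, 1, 1, 4, 2, 0, 4, 2, 3, 2, 1, 2, 0, 4, 0, 4, 2, 4, 4, 3, 2, 3, 4, 2, 0, 4, 0, 4, 2, 1, 0, 2, 0, 1, 1, 4, 2, 0, 4, 2, 3, 2, 1, 1, 0, 2, 0, 1, 1, 4, 2, 0, 4, 2, 3, 2, 1, 2, 0, 4, 0, 4, 2, 4, 4, 3, 2, 3, 4, 2, 0, 4, 0, 4, 2, 1, 0, 2, 0, 1, 1, 4, 2, 0, 2, 1, 3, 2, 1, 1, 0, 2, 0, 1, 1, 2, 1, 3, 1, 3, 2, 4, 4, 3, 2, 3, 4, 2, 1, 3, 1, 3, 2, 1, 0, 2, 0, 1, 1, 4, 2, 0, 2, 1, 3, 2, 1, 1, 0, 2, 0, 1, 1, 2, 1, 3, 1, 3, 2, 4, 4, 3, 2, 3, 4, 2, 1, 3, 1, 3, 2, 2, 1, 3, 1, 3, 2, 1, 0, 2, 0, 1, 1, 2, 1,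 3, 1, 3, 2, 4, 2, 0, 2, 1, 3, 2, 1, 4, 4, 3, 2, 3, 4, 4, 2, 0, 2, 1, 3, 2, 1, 4, 4, 3, 2, 3, 4, 2, 0, 4, 0, 4, 2, 1, 0, 2, 0, 1, 1, 2, 0, 4, 0, 4, 2, 4, 4, 3, 2, 3, 4, 4, 2, 0, 4, 2, 3, 2, 1, 4, 4, 3, 2, 3, 4, 2, 1, 3, 1, 3, 2, 1, 0, 2, 0, 1, 1, 2, 1, 3, 1, 3, 2, 4, 2, 0, 2, 1, 3, 2, 1, 4, 4, 3, 2, 3, 4, 4, 2, 0, 2, 1, 3, 2, 1, 4, 4, 3, 2, 3, 4, 2, 0, 4, 0, 4, 2, 1, 0, 2, 0, 1, 1, 2, 0, 4, 0, 4, 2, 4, 4, 3, 2, 3, 4, 4, 2, 0, 4, 2, 3, 2, 1, 4, 4, 3, 2, 3, 4]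

def genW5 : List ℕ := [2, 1, 3, 2, 0, 2, 0, 2, 4, 2, 0, 2, 1, 3, 2, 1, 4, 4, 3, 2, 3, 4, 2, 1, 3, 1, 3, 2, 4, 4, 3, 2, 3, 4, 2, 0, 4, 0, 4, 2, 4, 4, 3, 2, 3, 4, 2, 0, 4, 0, 4, 2, 4, 4, 3, 2, 3, 4, 4, 2, 0, 4, 2, 3, 2, 1, 2, 0, 4, 0, 4, 2, 1, 0, 2, 0, 1, 1, 2, 0, 4, 0, 4, 2, 4, 4, 3, 2, 3, 4, 4, 2, 0, 4, 2, 3, 2, 1, 4, 4, 3, 2, 3, 4, 2, 1, 3, 1, 3, 2, 1, 0, 2, 0, 1, 1, 2, 1, 3, 1, 3, 2, 4, 2, 0, 2, 1, 3, 2, 1, 4, 4, 3, 2, 3, 4, 4, 2, 0, 2, 1, 3, 2, 1, 4, 4, 3, 2, 3, 4, 2, 0, 4, 0, 4, 2, 1, 0, 2, 0, 1, 1, 2, 0, 4, 0, 4, 2, 4, 4, 3, 2, 3, 4, 4, 2, 0, 4, 2, 3, 2, 1, 4, 4, 3, 2, 3, 4, 1, 0, 2, 0, 1, 1, 4, 2, 0, 4, 2, 3, 2,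 1, 1, 0, 2, 0, 1, 1, 4, 2, 0, 4, 2, 3, 2, 1, 2, 0, 4, 0, 4, 2, 4, 4, 3, 2, 3, 4, 2, 0, 4, 0, 4, 2, 1, 0, 2, 0, 1, 1, 4, 2, 0, 4, 2, 3, 2, 1, 1, 0, 2, 0, 1, 1, 4, 2, 0, 4, 2, 3, 2, 1, 2, 0, 4, 0, 4, 2, 4, 4, 3, 2, 3, 4, 2, 0, 4, 0, 4, 2, 2, 0, 4, 0, 4, 2, 1, 0, 2, 0, 1, 1, 2, 0, 4, 0, 4, 2, 4, 4, 3, 2, 3, 4, 4, 2, 0, 4, 2, 3, 2, 1, 4, 4, 3, 2, 3, 4, 2, 1, 3, 1, 3, 2, 1, 0, 2, 0, 1, 1, 2, 1, 3, 1, 3, 2, 4, 2, 0, 2, 1, 3, 2, 1, 4, 4, 3, 2, 3, 4, 4, 2, 0, 2, 1, 3, 2, 1, 4, 4, 3, 2, 3, 4, 2, 0, 4, 0, 4, 2, 1, 0, 2, 0, 1, 1, 2, 0, 4, 0, 4, 2, 4, 4, 3, 2, 3, 4, 4, 2, 0, 4, 2, 3, 2, 1, 4, 4, 3, 2, 3, 4, 1, 0, 2, 0, 1, 1, 4, 2,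 0, 4, 2, 3, 2, 1, 1, 0, 2, 0, 1, 1, 4, 2, 0, 4, 2, 3, 2, 1, 2, 0, 4, 0, 4, 2, 4, 4, 3, 2, 3, 4, 2, 0, 4, 0, 4, 2, 1, 0, 2, 0, 1, 1, 4, 2, 0, 2, 1, 3, 2, 1, 1, 0, 2, 0, 1, 1, 2, 1, 3, 1, 3, 2, 4, 4, 3, 2, 3, 4, 2, 1, 3, 1, 3, 2, 1, 0, 2, 0, 1, 1, 4, 2, 0, 4, 2, 3, 2, 1, 1, 0, 2, 0, 1, 1, 4, 2, 0, 4, 2, 3, 2, 1, 2, 0, 4, 0, 4, 2, 4, 4, 3, 2, 3, 4, 2, 0, 4, 0, 4, 2, 1, 0, 2, 0, 1, 1, 4, 2, 0, 4, 2, 3, 2, 1, 1, 0, 2, 0, 1, 1, 4, 2, 0, 4, 2, 3, 2, 1, 2, 0, 4, 0, 4, 2, 4, 4, 3, 2, 3, 4, 2, 0, 4, 0, 4, 2, 1, 0, 2, 0, 1, 1, 4, 2, 0, 4, 2, 3, 2, 1, 1, 0, 2, 0, 1, 1, 4, 2, 0, 4, 2, 3, 2, 1, 2, 0, 4, 0, 4, 2, 4, 4, 3, 2, 3, 4, 2,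 0, 4, 0, 4, 2, 1, 0, 2, 0, 1, 1, 4, 2, 0, 2, 1, 3, 2, 1, 1, 0, 2, 0, 1, 1, 2, 1, 3, 1, 3, 2, 4, 4, 3, 2, 3, 4, 2, 1, 3, 1, 3, 2, 1, 0, 2, 0, 1, 1, 4, 2, 0, 4, 2, 3, 2, 1, 1, 0, 2, 0, 1, 1, 4, 2, 0, 4, 2, 3, 2, 1, 2, 0, 4, 0, 4, 2, 4, 4, 3, 2, 3, 4, 2, 0, 4, 0, 4, 2, 1, 0, 2, 0, 1, 1, 4, 2, 0, 2, 1, 3, 2, 1, 1, 0, 2, 0, 1, 1, 2, 1, 3, 1, 3, 2, 4, 4, 3, 2, 3, 4, 2, 1, 3, 1, 3, 2, 1, 0, 2, 0, 1, 1, 4, 2, 0, 4, 2, 3, 2, 1, 1, 0, 2, 0, 1, 1, 4, 2, 0, 4, 2, 3, 2, 1, 2, 0, 4, 0, 4, 2, 4, 4, 3, 2, 3, 4, 2, 0, 4, 0, 4, 2, 2, 0, 4, 0, 4, 2, 1, 0, 2, 0, 1, 1, 2, 0, 4, 0, 4, 2, 4, 4, 3, 2, 3, 4, 4, 2, 0, 4, 2, 3, 2, 1, 4, 4, 3, 2,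 3, 4, 2, 0, 4, 0, 4, 2, 1, 0, 2, 0, 1, 1, 2, 0, 4, 0, 4, 2, 4, 4, 3, 2, 3, 4, 4, 2, 0, 4, 2, 3, 2, 1, 4, 4, 3, 2, 3, 4, 2, 0, 4, 0, 4, 2, 1, 0, 2, 0, 1, 1, 2, 0, 4, 0, 4, 2, 4, 4, 3, 2, 3, 4, 4, 2, 0, 4, 2, 3, 2, 1, 4, 4, 3, 2, 3, 4, 1, 0, 2, 0, 1, 1, 4, 2, 0, 4, 2, 3, 2, 1, 1, 0, 2, 0, 1, 1, 4, 2, 0, 4, 2, 3, 2, 1, 2, 0, 4, 0, 4, 2, 4, 4, 3, 2, 3, 4, 2, 0, 4, 0, 4, 2, 1, 0, 2, 0, 1, 1, 4, 2, 0, 2, 1, 3, 2, 1, 1, 0, 2, 0, 1, 1, 2, 1, 3, 1, 3, 2, 4, 4, 3, 2, 3, 4, 2, 1, 3, 1, 3, 2, 1, 0, 2, 0, 1, 1, 4, 2, 0, 4, 2, 3, 2, 1, 1, 0, 2, 0, 1, 1, 4, 2, 0, 4, 2, 3, 2, 1, 2, 0, 4, 0, 4, 2, 4, 4, 3, 2, 3, 4, 2, 0, 4, 0, 4, 2, 1,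 0, 2, 0, 1, 1, 4, 2, 0, 4, 2, 3, 2, 1, 1, 0, 2, 0, 1, 1, 4, 2, 0, 4, 2, 3, 2, 1, 2, 0, 4, 0, 4, 2, 4, 4, 3, 2, 3, 4, 2, 0, 4, 0, 4, 2, 1, 0, 2, 0, 1, 1, 4, 2, 0, 4, 2, 3, 2, 1, 1, 0, 2, 0, 1, 1, 4, 2, 0, 4, 2, 3, 2, 1, 2, 0, 4, 0, 4, 2, 4, 4, 3, 2, 3, 4, 2, 0, 4, 0, 4, 2, 1, 0, 2, 0, 1, 1, 4, 2, 0, 2, 1, 3, 2, 1, 1, 0, 2, 0, 1, 1, 2, 1, 3, 1, 3, 2, 4, 4, 3, 2, 3, 4, 2, 1, 3, 1, 3, 2, 1, 0, 2, 0, 1, 1, 4, 2, 0, 4, 2, 3, 2, 1, 1, 0, 2, 0, 1, 1, 4, 2, 0, 4, 2, 3, 2, 1, 2, 0, 4, 0, 4, 2, 4, 4, 3, 2, 3, 4, 2, 0, 4, 0, 4, 2, 1, 0, 2, 0, 1, 1, 4, 2, 0, 2, 1, 3, 2, 1, 1, 0, 2, 0, 1, 1, 2, 1, 3, 1, 3, 2, 4, 4, 3, 2, 3, 4, 2, 1,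 3, 1, 3, 2, 1, 0, 2, 0, 1, 1, 4, 2, 0, 4, 2, 3, 2, 1, 1, 0, 2, 0, 1, 1, 4, 2, 0, 4, 2, 3, 2, 1, 2, 0, 4, 0, 4, 2, 4, 4, 3, 2, 3, 4, 2, 0, 4, 0, 4, 2, 2, 0, 4, 0, 4, 2, 1, 0, 2, 0, 1, 1, 2, 0, 4, 0, 4, 2, 4, 4, 3, 2, 3, 4, 4, 2, 0, 4, 2, 3, 2, 1, 4, 4, 3, 2, 3, 4, 2, 0, 4, 0, 4, 2, 1, 0, 2, 0, 1, 1, 2, 0, 4, 0, 4, 2, 4, 4, 3, 2, 3, 4, 4, 2, 0, 4, 2, 3, 2, 1, 4, 4, 3, 2, 3, 4]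

def genW6 : List ℕ := [4, 2, 0, 4, 2, 3, 2, 1, 4, 4, 3, 2, 3, 4, 2, 0, 4, 0, 4, 2, 4, 4, 3, 2, 3, 4, 4, 2, 0, 2, 1, 3, 2, 1, 4, 4, 3, 2, 3, 4, 4, 2, 0, 2, 1, 3, 2, 1, 2, 1, 3, 1, 3, 2, 1, 0, 2, 0, 1, 1, 2, 1, 3, 1, 3, 2, 4, 2, 0, 2, 1, 3, 2, 1, 4, 4, 3, 2, 3, 4, 4, 2, 0, 2, 1, 3, 2, 1, 4, 4, 3, 2, 3, 4, 1, 0, 2, 0, 1, 1, 4, 2, 0, 2, 1, 3, 2, 1, 1, 0, 2, 0, 1, 1, 2, 1, 3, 1, 3, 2, 4, 4, 3, 2, 3, 4, 2, 1, 3, 1, 3, 2, 1, 0, 2, 0, 1, 1, 4, 2, 0, 2, 1, 3, 2, 1, 1, 0, 2, 0, 1, 1, 2, 1, 3, 1, 3, 2, 4, 4, 3, 2, 3, 4, 2, 1, 3, 1, 3, 2, 2, 1, 3, 1, 3, 2, 1, 0, 2, 0, 1, 1, 2, 1, 3, 1, 3, 2, 4, 2, 0, 2, 1, 3, 2, 1, 4, 4, 3, 2, 3,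 4, 4, 2, 0, 2, 1, 3, 2, 1, 4, 4, 3, 2, 3, 4, 2, 0, 4, 0, 4, 2, 1, 0, 2, 0, 1, 1, 2, 0, 4, 0, 4, 2, 4, 4, 3, 2, 3, 4, 4, 2, 0, 4, 2, 3, 2, 1, 4, 4, 3, 2, 3, 4, 2, 0, 4, 0, 4, 2, 1, 0, 2, 0, 1, 1, 2, 0, 4, 0, 4, 2, 4, 4, 3, 2, 3, 4, 4, 2, 0, 4, 2, 3, 2, 1, 4, 4, 3, 2, 3, 4, 2, 0, 4, 0, 4, 2, 1, 0, 2, 0, 1, 1, 2, 0, 4, 0, 4, 2, 4, 4, 3, 2, 3, 4, 4, 2, 0, 4, 2, 3, 2, 1, 4, 4, 3, 2, 3, 4, 1, 0, 2, 0, 1, 1, 4, 2, 0, 4, 2, 3, 2, 1, 1, 0, 2, 0, 1, 1, 4, 2, 0, 4, 2, 3, 2, 1, 2, 0, 4, 0, 4, 2, 4, 4, 3, 2, 3, 4, 2, 0, 4, 0, 4, 2, 1, 0, 2, 0, 1, 1, 4, 2, 0, 2, 1, 3, 2, 1, 1, 0, 2, 0, 1, 1, 2, 1, 3, 1, 3, 2, 4, 4, 3, 2, 3, 4, 2, 1,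 3, 1, 3, 2, 1, 0, 2, 0, 1, 1, 4, 2, 0, 4, 2, 3, 2, 1, 1, 0, 2, 0, 1, 1, 4, 2, 0, 4, 2, 3, 2, 1, 2, 0, 4, 0, 4, 2, 4, 4, 3, 2, 3, 4, 2, 0, 4, 0, 4, 2, 1, 0, 2, 0, 1, 1, 4, 2, 0, 4, 2, 3, 2, 1, 1, 0, 2, 0, 1, 1, 4, 2, 0, 4, 2, 3, 2, 1, 2, 0, 4, 0, 4, 2, 4, 4, 3, 2, 3, 4, 2, 0, 4, 0, 4, 2, 1, 0, 2, 0, 1, 1, 4, 2, 0, 4, 2, 3, 2, 1, 1, 0, 2, 0, 1, 1, 4, 2, 0, 4, 2, 3, 2, 1, 2, 0, 4, 0, 4, 2, 4, 4, 3, 2, 3, 4, 2, 0, 4, 0, 4, 2, 2, 0, 4, 0, 4, 2, 1, 0, 2, 0, 1, 1, 2, 0, 4, 0, 4, 2, 4, 4, 3, 2, 3, 4, 4, 2, 0, 4, 2, 3, 2, 1, 4, 4, 3, 2, 3, 4, 1, 0, 2, 0, 1, 1, 4, 2, 0, 4, 2, 3, 2, 1, 1, 0, 2, 0, 1, 1, 4, 2, 0, 4, 2, 3, 2, 1, 2,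 0, 4, 0, 4, 2, 4, 4, 3, 2, 3, 4, 2, 0, 4, 0, 4, 2, 1, 0, 2, 0, 1, 1, 4, 2, 0, 2, 1, 3, 2, 1, 1, 0, 2, 0, 1, 1, 2, 1, 3, 1, 3, 2, 4, 4, 3, 2, 3, 4, 2, 1, 3, 1, 3, 2, 1, 0, 2, 0, 1, 1, 4, 2, 0, 4, 2, 3, 2, 1, 1, 0, 2, 0, 1, 1, 4, 2, 0, 4, 2, 3, 2, 1, 2, 0, 4, 0, 4, 2, 4, 4, 3, 2, 3, 4, 2, 0, 4, 0, 4, 2, 1, 0, 2, 0, 1, 1, 4, 2, 0, 4, 2, 3, 2, 1, 1, 0, 2, 0, 1, 1, 4, 2, 0, 4, 2, 3, 2, 1, 2, 0, 4, 0, 4, 2, 4, 4, 3, 2, 3, 4, 2, 0, 4, 0, 4, 2, 1, 0, 2, 0, 1, 1, 4, 2, 0, 4, 2, 3, 2, 1, 1, 0, 2, 0, 1, 1, 4, 2, 0, 4, 2, 3, 2, 1, 2, 0, 4, 0, 4, 2, 4, 4, 3, 2, 3, 4, 2, 0, 4, 0, 4, 2, 1, 0, 2, 0, 1, 1, 4, 2, 0, 2, 1, 3, 2, 1, 1, 0,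 2, 0, 1, 1, 2, 1, 3, 1, 3, 2, 4, 4, 3, 2, 3, 4, 2, 1, 3, 1, 3, 2, 1, 0, 2, 0, 1, 1, 4, 2, 0, 2, 1, 3, 2, 1, 1, 0, 2, 0, 1, 1, 2, 1, 3, 1, 3, 2, 4, 4, 3, 2, 3, 4, 2, 1, 3, 1, 3, 2, 2, 1, 3, 1, 3, 2, 1, 0, 2, 0, 1, 1, 2, 1, 3, 1, 3, 2, 4, 2, 0, 2, 1, 3, 2, 1, 4, 4, 3, 2, 3, 4, 4, 2, 0, 2, 1, 3, 2, 1, 4, 4, 3, 2, 3, 4, 2, 0, 4, 0, 4, 2, 1, 0, 2, 0, 1, 1, 2, 0, 4, 0, 4, 2, 4, 4, 3, 2, 3, 4, 4, 2, 0, 4, 2, 3, 2, 1, 4, 4, 3, 2, 3, 4, 2, 1, 3, 1, 3, 2, 1, 0, 2, 0, 1, 1, 2, 1, 3, 1, 3, 2, 4, 2, 0, 2, 1, 3, 2, 1, 4, 4, 3, 2, 3, 4, 4, 2, 0, 2, 1, 3, 2, 1, 4, 4, 3, 2, 3, 4, 2, 0, 4, 0, 4, 2, 1, 0, 2, 0, 1, 1, 2, 0, 4, 0, 4, 2, 4,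 4, 3, 2, 3, 4, 4, 2, 0, 4, 2, 3, 2, 1, 4, 4, 3, 2, 3, 4, 2, 0, 4, 0, 4, 2, 1, 0, 2, 0, 1, 1, 2, 0, 4, 0, 4, 2, 4, 4, 3, 2, 3, 4, 4, 2, 0, 4, 2, 3, 2, 1, 4, 4, 3, 2, 3, 4, 1, 0, 2, 0, 1, 1, 4, 2, 0, 4, 2, 3, 2, 1, 1, 0, 2, 0, 1, 1, 4, 2, 0, 4, 2, 3, 2, 1, 2, 0, 4, 0, 4, 2, 4, 4, 3, 2, 3, 4, 2, 0, 4, 0, 4, 2, 1, 0, 2, 0, 1, 1, 4, 2, 0, 2, 1, 3, 2, 1, 1, 0, 2, 0, 1, 1, 2, 1, 3, 1, 3, 2, 4, 4, 3, 2, 3, 4, 2, 1, 3, 1, 3, 2, 1, 0, 2, 0, 1, 1, 4, 2, 0, 4, 2, 3, 2, 1, 1, 0, 2, 0, 1, 1, 4, 2, 0, 4, 2, 3, 2, 1, 2, 0, 4, 0, 4, 2, 4, 4, 3, 2, 3, 4, 2, 0, 4, 0, 4, 2, 1, 0, 2, 0, 1, 1, 4, 2, 0, 4, 2, 3, 2, 1, 1, 0, 2, 0, 1, 1, 4, 2,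 0, 4, 2, 3, 2, 1, 2, 0, 4, 0, 4, 2, 4, 4, 3, 2, 3, 4, 2, 0, 4, 0, 4, 2, 1, 0, 2, 0, 1, 1, 4, 2, 0, 4, 2, 3, 2, 1, 1, 0, 2, 0, 1, 1, 4, 2, 0, 4, 2, 3, 2, 1, 2, 0, 4, 0, 4, 2, 4, 4, 3, 2, 3, 4, 2, 0, 4, 0, 4, 2]

/-- the generators as words in `y, u, s` -/
def genW (x : Gen) : List ℕ := Gen.rec (motive := fun _ => List ℕ) genW0 genW1 genW2 genW3 genW4 genW5 genW6 x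

def alW0 : List Gen := [Gen.b, Gen.g, Gen.c, Gen.b, Gen.f, Gen.d, Gen.c, Gen.d, Gen.e, Gen.b, Gen.c, Gen.d, Gen.c, Gen.a, Gen.b, Gen.e, Gen.d, Gen.c, Gen.a, Gen.b, Gen.g, Gen.b, Gen.f, Gen.d, Gen.e, Gen.c, Gen.a, Gen.d, Gen.c, Gen.f, Gen.b, Gen.g, Gen.b, Gen.c, Gen.d, Gen.a, Gen.f, Gen.b, Gen.g, Gen.b, Gen.a, Gen.c, Gen.b, Gen.g, Gen.b, Gen.c, Gen.d, Gen.c, Gen.f, Gen.b, Gen.g, Gen.b, Gen.c, Gen.d, Gen.c, Gen.d, Gen.c, Gen.b, Gen.g, Gen.b, Gen.a, Gen.f, Gen.b, Gen.g, Gen.b, Gen.a, Gen.c, Gen.d, Gen.c, Gen.b, Gen.g, Gen.b, Gen.f, Gen.a, Gen.b, Gen.g, Gen.b, Gen.d, Gen.e, Gen.d, Gen.c, Gen.d, Gen.c, Gen.a, Gen.d, Gen.e,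 Gen.d, Gen.b, Gen.g, Gen.b, Gen.f, Gen.b, Gen.g, Gen.b, Gen.a, Gen.d, Gen.c, Gen.b, Gen.g, Gen.b, Gen.f, Gen.c, Gen.d, Gen.b, Gen.g, Gen.b, Gen.f, Gen.a, Gen.b, Gen.g, Gen.b, Gen.d, Gen.e, Gen.d, Gen.b, Gen.g, Gen.b, Gen.a, Gen.f, Gen.b, Gen.g, Gen.b, Gen.a, Gen.c, Gen.d, Gen.b, Gen.g, Gen.b, Gen.c, Gen.a, Gen.b, Gen.g, Gen.b, Gen.f, Gen.a, Gen.c, Gen.d, Gen.c, Gen.d, Gen.e, Gen.d]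

def alW1 : List Gen := [Gen.f, Gen.a, Gen.b, Gen.a, Gen.b, Gen.c, Gen.d, Gen.e, Gen.b, Gen.c, Gen.d, Gen.c, Gen.b, Gen.a, Gen.g, Gen.b, Gen.d, Gen.c, Gen.a, Gen.b, Gen.g, Gen.b, Gen.a, Gen.b, Gen.g, Gen.b, Gen.c, Gen.d, Gen.e, Gen.c, Gen.a, Gen.c, Gen.d, Gen.b, Gen.g, Gen.b, Gen.c, Gen.a, Gen.b, Gen.g, Gen.b, Gen.f, Gen.d, Gen.e, Gen.d, Gen.a, Gen.c, Gen.d, Gen.c, Gen.b, Gen.g, Gen.b, Gen.a, Gen.f, Gen.b, Gen.g, Gen.b, Gen.d, Gen.c, Gen.f, Gen.b, Gen.g, Gen.b, Gen.c, Gen.d, Gen.a, Gen.b, Gen.g, Gen.b, Gen.f, Gen.b, Gen.g, Gen.b, Gen.d, Gen.e, Gen.d, Gen.a, Gen.c, Gen.d, Gen.c, Gen.d, Gen.e, Gen.d, Gen.b, Gen.g, Gen.b,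 Gen.a, Gen.f, Gen.b, Gen.g, Gen.b, Gen.a, Gen.c, Gen.d, Gen.c, Gen.b, Gen.g, Gen.b, Gen.f, Gen.a, Gen.b, Gen.g, Gen.b, Gen.d, Gen.e, Gen.d, Gen.b, Gen.g, Gen.b, Gen.a, Gen.f, Gen.b, Gen.g, Gen.b, Gen.a, Gen.c, Gen.d, Gen.b, Gen.g, Gen.b, Gen.c, Gen.a, Gen.b, Gen.g, Gen.b, Gen.f, Gen.a, Gen.c, Gen.d, Gen.c, Gen.d, Gen.e, Gen.d, Gen.b, Gen.g, Gen.b, Gen.a, Gen.f, Gen.b, Gen.g, Gen.b, Gen.a, Gen.c, Gen.d, Gen.c, Gen.b, Gen.g, Gen.b, Gen.f, Gen.a, Gen.b, Gen.g, Gen.b, Gen.d, Gen.e, Gen.d, Gen.b, Gen.g, Gen.b, Gen.a, Gen.f, Gen.b, Gen.g, Gen.b, Gen.a, Gen.c, Gen.d, Gen.b, Gen.g, Gen.b, Gen.c, Gen.a, Gen.b, Gen.g, Gen.b, Gen.f,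 Gen.a, Gen.c, Gen.d, Gen.c, Gen.d, Gen.e, Gen.d, Gen.b, Gen.g, Gen.b, Gen.a, Gen.f, Gen.b, Gen.g, Gen.b, Gen.c, Gen.d, Gen.c, Gen.a, Gen.d, Gen.c, Gen.f, Gen.b, Gen.g, Gen.b, Gen.c, Gen.d, Gen.a, Gen.b, Gen.g, Gen.b, Gen.f, Gen.b, Gen.g, Gen.b, Gen.d, Gen.e, Gen.d, Gen.a, Gen.c, Gen.d, Gen.c, Gen.d, Gen.e, Gen.d, Gen.b, Gen.g, Gen.b, Gen.a, Gen.f, Gen.b, Gen.g, Gen.b, Gen.a, Gen.c, Gen.d, Gen.c, Gen.b, Gen.g, Gen.b, Gen.f, Gen.a, Gen.b, Gen.g, Gen.b]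

def alW2 : List Gen := [Gen.e, Gen.c, Gen.d, Gen.c, Gen.d, Gen.e, Gen.b, Gen.c, Gen.d, Gen.c, Gen.g, Gen.f, Gen.b, Gen.d, Gen.b, Gen.f, Gen.g, Gen.a, Gen.b, Gen.c, Gen.b, Gen.a, Gen.d, Gen.a, Gen.b, Gen.c, Gen.b, Gen.a, Gen.e, Gen.d, Gen.g, Gen.a, Gen.b, Gen.c, Gen.b, Gen.a, Gen.d, Gen.b, Gen.f, Gen.g, Gen.f, Gen.b, Gen.f, Gen.b, Gen.g, Gen.a, Gen.b, Gen.c, Gen.b, Gen.a, Gen.f, Gen.b, Gen.g, Gen.b, Gen.f, Gen.d, Gen.e, Gen.d, Gen.b, Gen.f, Gen.g, Gen.f, Gen.b, Gen.d, Gen.a, Gen.b, Gen.c, Gen.b, Gen.a, Gen.g, Gen.d, Gen.f, Gen.b, Gen.g, Gen.a, Gen.b, Gen.c, Gen.b, Gen.a, Gen.f, Gen.b, Gen.g, Gen.b, Gen.f, Gen.d, Gen.e,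 Gen.d, Gen.f, Gen.b, Gen.g, Gen.a, Gen.b, Gen.c, Gen.b, Gen.a, Gen.f, Gen.b, Gen.g, Gen.b, Gen.f, Gen.d, Gen.e, Gen.g, Gen.a, Gen.b, Gen.c, Gen.b, Gen.a, Gen.d, Gen.b, Gen.f, Gen.g, Gen.f, Gen.b, Gen.f, Gen.b, Gen.g, Gen.a, Gen.b, Gen.c, Gen.b, Gen.a, Gen.f, Gen.b, Gen.g, Gen.b, Gen.f, Gen.d, Gen.e, Gen.d, Gen.e, Gen.b, Gen.f, Gen.g, Gen.a, Gen.b, Gen.c, Gen.b, Gen.a, Gen.d, Gen.a, Gen.b, Gen.c, Gen.b, Gen.a, Gen.e, Gen.d, Gen.g, Gen.a, Gen.b, Gen.c, Gen.b, Gen.a, Gen.d, Gen.b, Gen.f, Gen.g, Gen.f, Gen.b, Gen.d, Gen.e, Gen.d, Gen.f, Gen.b, Gen.g, Gen.b, Gen.f, Gen.a, Gen.b, Gen.c, Gen.b, Gen.a, Gen.g, Gen.b, Gen.f, Gen.d,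 Gen.g, Gen.a, Gen.b, Gen.c, Gen.b, Gen.a, Gen.d, Gen.b, Gen.f, Gen.g, Gen.f, Gen.b, Gen.f, Gen.b, Gen.g, Gen.a, Gen.b, Gen.c, Gen.b, Gen.a, Gen.f, Gen.b, Gen.g, Gen.b, Gen.f, Gen.d, Gen.e, Gen.g, Gen.a, Gen.b, Gen.c, Gen.b, Gen.a, Gen.d, Gen.b, Gen.f, Gen.g, Gen.f, Gen.b, Gen.f, Gen.b, Gen.g, Gen.a, Gen.b, Gen.c, Gen.b, Gen.a, Gen.f, Gen.b, Gen.g, Gen.b, Gen.f, Gen.d, Gen.e, Gen.d]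

def alW3 : List Gen := [Gen.d, Gen.a, Gen.b, Gen.c, Gen.d, Gen.c, Gen.b, Gen.f, Gen.e, Gen.a, Gen.b, Gen.c, Gen.d, Gen.c, Gen.a, Gen.b, Gen.f, Gen.c, Gen.a, Gen.c, Gen.b, Gen.g, Gen.b, Gen.c, Gen.a, Gen.b, Gen.g, Gen.b, Gen.f, Gen.a, Gen.c, Gen.d, Gen.c, Gen.b, Gen.g, Gen.b, Gen.f, Gen.b, Gen.g, Gen.b, Gen.a, Gen.c, Gen.d, Gen.c, Gen.b, Gen.g, Gen.b, Gen.a, Gen.f, Gen.b, Gen.g, Gen.b, Gen.a, Gen.c, Gen.d, Gen.c, Gen.d, Gen.c, Gen.f, Gen.b, Gen.g, Gen.b, Gen.c, Gen.d, Gen.a, Gen.b, Gen.g, Gen.b, Gen.f, Gen.b, Gen.g, Gen.b, Gen.d, Gen.e, Gen.d, Gen.a, Gen.c, Gen.d, Gen.c, Gen.d, Gen.e, Gen.d]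

def alW4 : List Gen := [Gen.b, Gen.f, Gen.d, Gen.c, Gen.d, Gen.e, Gen.b, Gen.c, Gen.d, Gen.c, Gen.b, Gen.a, Gen.g, Gen.b, Gen.c, Gen.d, Gen.c, Gen.b, Gen.g, Gen.b, Gen.f, Gen.b, Gen.g, Gen.b, Gen.e, Gen.b, Gen.g, Gen.b, Gen.c, Gen.a, Gen.b, Gen.g, Gen.b, Gen.f, Gen.a, Gen.d, Gen.c, Gen.b, Gen.g, Gen.b, Gen.f, Gen.c, Gen.d, Gen.f, Gen.b, Gen.g, Gen.b, Gen.a, Gen.c, Gen.b, Gen.g, Gen.b, Gen.c, Gen.d, Gen.e, Gen.d, Gen.c, Gen.b, Gen.g, Gen.b, Gen.c, Gen.a, Gen.b, Gen.g, Gen.b, Gen.f, Gen.d, Gen.e, Gen.d, Gen.c, Gen.d, Gen.c, Gen.a, Gen.d, Gen.e, Gen.d, Gen.b, Gen.g, Gen.b, Gen.f, Gen.b, Gen.g, Gen.b, Gen.a, Gen.d, Gen.c,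 Gen.b, Gen.g, Gen.b, Gen.f, Gen.c, Gen.d, Gen.b, Gen.g, Gen.b, Gen.f, Gen.a, Gen.b, Gen.g, Gen.b, Gen.d, Gen.e, Gen.d, Gen.b, Gen.g, Gen.b, Gen.a, Gen.f, Gen.b, Gen.g, Gen.b, Gen.a, Gen.c, Gen.d, Gen.b, Gen.g, Gen.b, Gen.c, Gen.a, Gen.b, Gen.g, Gen.b, Gen.f, Gen.a, Gen.c, Gen.d, Gen.c, Gen.d, Gen.e, Gen.d, Gen.b, Gen.g, Gen.b, Gen.a, Gen.f, Gen.b, Gen.g, Gen.b, Gen.c, Gen.d, Gen.c, Gen.a, Gen.b, Gen.g, Gen.b, Gen.f, Gen.a, Gen.b, Gen.g, Gen.b, Gen.d, Gen.e, Gen.d, Gen.c, Gen.d, Gen.c, Gen.a, Gen.d, Gen.e, Gen.d, Gen.b, Gen.g, Gen.b, Gen.f, Gen.b, Gen.g, Gen.b, Gen.a, Gen.d, Gen.c, Gen.b, Gen.g, Gen.b, Gen.f, Gen.c, Gen.d,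 Gen.a, Gen.c, Gen.d, Gen.c, Gen.b, Gen.g, Gen.b, Gen.f, Gen.a, Gen.b, Gen.g, Gen.b, Gen.d, Gen.e, Gen.d, Gen.c, Gen.d, Gen.c, Gen.a, Gen.f, Gen.b, Gen.g, Gen.b, Gen.a, Gen.c, Gen.b, Gen.g, Gen.b, Gen.d, Gen.c, Gen.a, Gen.b, Gen.g, Gen.b, Gen.f, Gen.a, Gen.b, Gen.g, Gen.b, Gen.d, Gen.e, Gen.d]

def alW5 : List Gen := [Gen.b, Gen.g, Gen.c, Gen.b, Gen.f, Gen.c, Gen.d, Gen.e, Gen.c, Gen.d, Gen.b, Gen.c, Gen.b, Gen.a, Gen.b, Gen.f, Gen.b, Gen.g, Gen.b, Gen.f, Gen.b, Gen.g, Gen.b, Gen.c, Gen.a, Gen.b, Gen.g, Gen.b, Gen.c, Gen.d, Gen.e, Gen.c, Gen.d, Gen.e, Gen.d, Gen.f, Gen.b, Gen.g, Gen.b, Gen.a, Gen.c, Gen.b, Gen.g, Gen.b,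 Gen.c, Gen.a, Gen.d, Gen.c, Gen.b, Gen.g, Gen.b, Gen.f, Gen.c, Gen.d, Gen.b, Gen.g, Gen.b, Gen.f, Gen.b, Gen.g, Gen.b, Gen.d, Gen.c, Gen.f, Gen.b, Gen.g, Gen.b, Gen.c, Gen.d, Gen.a, Gen.b, Gen.g, Gen.b, Gen.a, Gen.f, Gen.b, Gen.g, Gen.b, Gen.a, Gen.c, Gen.d, Gen.c, Gen.b, Gen.g, Gen.b, Gen.f, Gen.a, Gen.b, Gen.g, Gen.b, Gen.d, Gen.e, Gen.d, Gen.b, Gen.g, Gen.b, Gen.a, Gen.f, Gen.b, Gen.g, Gen.b, Gen.a, Gen.c, Gen.d, Gen.b, Gen.g, Gen.b, Gen.c, Gen.a, Gen.b, Gen.g, Gen.b, Gen.f, Gen.a, Gen.c, Gen.d, Gen.c, Gen.d, Gen.e, Gen.d, Gen.b, Gen.g, Gen.b, Gen.a, Gen.f, Gen.b, Gen.g, Gen.b, Gen.a, Gen.c, Gen.d, Gen.c, Gen.b, Gen.g,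 Gen.b, Gen.f, Gen.a, Gen.b, Gen.g, Gen.b, Gen.d, Gen.e, Gen.d, Gen.b, Gen.g, Gen.b, Gen.a, Gen.f, Gen.b, Gen.g, Gen.b, Gen.a, Gen.c, Gen.d, Gen.b, Gen.g, Gen.b, Gen.c, Gen.a, Gen.b, Gen.g, Gen.b, Gen.f, Gen.a, Gen.c, Gen.d, Gen.c, Gen.d, Gen.e, Gen.d, Gen.b, Gen.g, Gen.b, Gen.a, Gen.f, Gen.b, Gen.g, Gen.b, Gen.c, Gen.d, Gen.c, Gen.a, Gen.d, Gen.c, Gen.f, Gen.b, Gen.g, Gen.b, Gen.c, Gen.d, Gen.a, Gen.b, Gen.g, Gen.b, Gen.f, Gen.b, Gen.g, Gen.b, Gen.d, Gen.e, Gen.d, Gen.a, Gen.c, Gen.d, Gen.c, Gen.d, Gen.e, Gen.d, Gen.b, Gen.g, Gen.b, Gen.a, Gen.f, Gen.b, Gen.g, Gen.b, Gen.a, Gen.c, Gen.d, Gen.c, Gen.b, Gen.g, Gen.b, Gen.f,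 Gen.a, Gen.b, Gen.g, Gen.b]

def alW6 : List Gen := [Gen.g, Gen.b, Gen.f, Gen.g, Gen.b, Gen.f, Gen.c, Gen.d, Gen.e, Gen.c, Gen.d, Gen.c, Gen.g, Gen.b, Gen.c, Gen.d, Gen.c, Gen.a, Gen.b, Gen.g, Gen.b, Gen.f, Gen.b, Gen.g, Gen.b, Gen.e, Gen.c, Gen.d, Gen.e, Gen.d, Gen.c, Gen.b, Gen.g, Gen.b, Gen.c, Gen.a, Gen.b, Gen.g, Gen.b, Gen.f, Gen.d, Gen.c, Gen.f, Gen.b, Gen.g, Gen.b, Gen.c, Gen.d, Gen.a, Gen.f, Gen.b, Gen.g, Gen.b, Gen.a, Gen.c, Gen.b, Gen.g, Gen.b, Gen.c, Gen.b, Gen.g, Gen.b, Gen.a, Gen.f, Gen.b, Gen.g, Gen.b, Gen.d, Gen.c, Gen.f, Gen.b, Gen.g, Gen.b, Gen.c, Gen.d, Gen.a, Gen.b, Gen.g, Gen.b, Gen.f, Gen.b, Gen.g,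 Gen.b, Gen.d, Gen.e, Gen.d, Gen.a, Gen.c, Gen.d, Gen.c, Gen.d, Gen.e, Gen.d, Gen.b, Gen.g, Gen.b, Gen.a, Gen.f, Gen.b, Gen.g, Gen.b, Gen.a, Gen.c, Gen.d, Gen.c, Gen.b, Gen.g, Gen.b, Gen.f, Gen.a, Gen.b, Gen.g, Gen.b, Gen.d, Gen.e, Gen.d, Gen.b, Gen.g, Gen.b, Gen.a, Gen.f, Gen.b, Gen.g, Gen.b, Gen.a, Gen.c, Gen.d, Gen.b, Gen.g, Gen.b, Gen.c, Gen.a, Gen.b, Gen.g, Gen.b, Gen.f, Gen.d, Gen.e, Gen.d, Gen.b, Gen.g, Gen.b, Gen.f, Gen.b, Gen.g, Gen.b, Gen.a, Gen.d, Gen.c, Gen.b, Gen.g, Gen.b, Gen.f, Gen.c, Gen.d, Gen.a, Gen.c, Gen.d, Gen.c, Gen.b, Gen.g, Gen.b, Gen.f, Gen.a, Gen.b, Gen.g, Gen.b, Gen.d, Gen.e, Gen.d, Gen.c, Gen.d,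 Gen.c, Gen.a, Gen.f, Gen.b, Gen.g, Gen.b, Gen.a, Gen.c, Gen.b, Gen.g, Gen.b, Gen.d, Gen.c, Gen.a, Gen.b, Gen.g, Gen.b, Gen.f, Gen.a, Gen.b, Gen.g, Gen.b, Gen.d, Gen.e, Gen.d]

/-- the images of the generators under the outer automorphism -/
def alW (x : Gen) : List Gen := Gen.rec (motive := fun _ => List Gen) alW0 alW1 alW2 alW3 alW4 alW5 alW6 x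

end

end Cfsg.Agent.Lib.Helper28.SuzOut
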