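/-
Kernel checks for the centralizer of the element `u` of order 6 of the presented Suzuki group and for
the rigidity of the triple `(y, u, s)`.
-/
import Cfsg.Agent.Lib.Helper28.SuzOut.CentYChk
import Cfsg.Agent.Lib.Helper28.SuzOut.GenData

set_option autoImplicit false
set_option maxRecDepth 100000

namespace Cfsg.Agent.Lib.Helper28.SuzOut

open Cfsg.Spor.Suz (Gen)
open Cfsg.Agent.Lib.Helper28.TC
open Cfsg.Agent.Lib.Helper28.Ord
open Cfsg.Agent.Lib.Helper28.Sift
open Cfsg.Agent.Lib.Helper28.Suz1782 (tf nn rels T hrel hinv nn_pos)
open Cfsg.Agent.Lib.Helper28.SuzOrd (phi phi_injective card_Suz finite_Suz)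

noncomputable section

/-- the involution commuting with `u` -/
def sE : GS := we sw

/-- the relation words `(y u y x)⁹` and `(y u u x)⁹` -/
def rel2 (w : List Gen) : List Gen := wrep 9 (yw ++ uw ++ yw ++ w)
def rel3 (w : List Gen) : List Gen := wrep 9 (yw ++ uw ++ uw ++ w)

/-- the test for the image of `s`: the word does not commute with `u`, or is `s`, or violates one of
the relations `x² = (y u y x)⁹ = (y u u x)⁹ = 1` -/
def PU (w : List Gen) : Bool :=
  bor (bnot (wEq (w ++ uw) (uw ++ w))) (bor (wEq w sw) (bor (bnot (isId (w ++ w)))
    (bor (bnot (isId (rel2 w))) (bnot (isId (rel3 w))))))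

def chkU (q : ℕ) : Bool := siftP tf PU LsU (orbList tf uw 4 q) []

theorem chkU_blk0 : allRange (guard nn chkU) 10 (0 * 2 ^ 10) = true := by decide +kernel
theorem chkU_blk1 : allRange (guard nn chkU) 10 (1 * 2 ^ 10) = true := by decide +kernel

theorem chkU_all : ∀ i, i < nn → chkU i = true := by
  refine all_of_blocks nn chkU 10 2 (by decide) ?_
  intro k hk
  interval_cases k
  · exact chkU_blk0
  · exact chkU_blk1

theorem su_chk : wEq (sw ++ uw) (uw ++ sw) = true := by decide +kernel
theorem s2_chk : isId (sw ++ sw) = true := by decide +kernel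
theorem r2_chk : isId (rel2 sw) = true := by decide +kernel
theorem r3_chk : isId (rel3 sw) = true := by decide +kernel

/-- the letters `y, u, s, y⁻¹, u⁻¹` -/
def lw (c : ℕ) : List Gen := nthD [yw, uw, sw, yw.reverse, uw.reverse] c []

/-- the action of a word in the letters -/
def actS (code : List ℕ) (p : ℕ) : ℕ := List.rec p (fun c _ ih => act tf (lw c) ih) code

/-- the generator `x` and the word `genW x` in `y, u, s` agree on the base -/
def genChk (x : Gen) : Bool :=
  allList (fun L => Nat.beq (actS (genW x) L.O.root) (tf x L.O.root)) LsU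

theorem genChk_a : genChk Gen.a = true := by decide +kernel
theorem genChk_b : genChk Gen.b = true := by decide +kernel
theorem genChk_c : genChk Gen.c = true := by decide +kernel
theorem genChk_d : genChk Gen.d = true := by decide +kernel
theorem genChk_e : genChk Gen.e = true := by decide +kernel
theorem genChk_f : genChk Gen.f = true := by decide +kernel
theorem genChk_g : genChk Gen.g = true := by decide +kernel

theorem genChk_all (x : Gen) : genChk x = true := by
  cases x
  · exact genChk_a
  · exact genChk_b
  · exact genChk_c
  · exact genChk_d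
  · exact genChk_e
  · exact genChk_f
  · exact genChk_g

end

end Cfsg.Agent.Lib.Helper28.SuzOut
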