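/-
The element `y` of order 13 of the presented Suzuki group is self-centralizing, and it is not
conjugate to its square.
-/
import Cfsg.Agent.Lib.Helper28.SuzOut.CentYChk

set_option autoImplicit false
set_option maxRecDepth 100000

namespace Cfsg.Agent.Lib.Helper28.SuzOut

open Cfsg.Spor.Suz (Gen)
open Cfsg.Agent.Lib.Helper28.TC
open Cfsg.Agent.Lib.Helper28.Ord
open Cfsg.Agent.Lib.Helper28.Sift
open Cfsg.Agent.Lib.Helper28.Suz1782 (tf nn rels T hrel hinv nn_pos)
open Cfsg.Agent.Lib.Helper28.SuzOrd (phi phi_injective card_Suz finite_Suz)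

noncomputable section

theorem we_yw : we yw = yE := rfl

/-- the centralizer of `y` is generated by `y` -/
theorem cent_y (c : GS) (hc : c * yE = yE * c) : c ∈ Subgroup.zpowers yE := by
  obtain ⟨q, hq, w, hw0, hs⟩ := conj_cover T hrel phi_injective nn_pos LsY hokY hexY yw yw 1
    (by decide) rootsY c hc
  have hw : c = we w := hw0
  have h1 : PY w = true := by
    rw [← hs PY]
    exact chkY_all q hq
  unfold PY at h1
  rw [bor_eq_true, bnot_eq_true] at h1
  rcases h1 with h1 | h1
  · exfalso
    have h2 : wEq (w ++ yw) (yw ++ w) = true := by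
      rw [wEq_iff, we_append, we_append, ← hw]
      exact hc
    rw [h2] at h1
    cases h1
  · obtain ⟨k, _, hk⟩ := anyList_spec _ _ h1
    rw [wEq_iff] at hk
    have : we (wrep k yw) = yE ^ k := wval_wrep _ _ _
    rw [hw, hk, this]
    exact Subgroup.pow_mem _ (Subgroup.mem_zpowers _) _

/-- `y` is not conjugate to its square -/
theorem no_conj_y2 (c : GS) (hc : c * yE = yE ^ 2 * c) : False := by
  have hc' : c * wval (pval rels) yw = wval (pval rels) (yw ++ yw) * c := by
    have : wval (pval rels) (yw ++ yw) = yE ^ 2 := by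
      rw [pow_two]; exact wval_append _ _ _
    rw [this]
    exact hc
  obtain ⟨q, hq, w, hw0, hs⟩ := conj_cover T hrel phi_injective nn_pos LsY hokY hexY yw (yw ++ yw) 1
    (by decide) rootsY c hc'
  have hw : c = we w := hw0
  have h1 : PY2 w = true := by
    rw [← hs PY2]
    exact chkY2_all q hq
  unfold PY2 at h1
  rw [bnot_eq_true] at h1
  have h2 : wEq (w ++ yw) (yw ++ yw ++ w) = true := by
    rw [wEq_iff, we_append, we_append, we_append, ← hw, ← pow_two]
    exact hc
  rw [h2] at h1
  cases h1

theorem orderOf_y : orderOf yE = 13 := by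
  have : Fact (Nat.Prime 13) := ⟨by norm_num⟩
  apply orderOf_eq_prime
  · have h := (isId_iff _).1 y13_chk
    rw [show we (wrep 13 yw) = yE ^ 13 from wval_wrep _ _ _] at h
    exact h
  · intro h
    have h2 := (isId_iff yw).2 h
    rw [y_ne_chk] at h2
    cases h2

theorem uyu : uE * yE * uE⁻¹ = yE ^ 4 := by
  have h := (wEq_iff _ _).1 uyu_chk
  rw [we_append, we_append, we_reverse, show we (wrep 4 yw) = yE ^ 4 from wval_wrep _ _ _] at h
  exact h


end

end Cfsg.Agent.Lib.Helper28.SuzOut
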